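import Cfsg.Agent.AutPOmega.Subfield
import Cfsg.Agent.AutPOmega.Triality.PlusCard

/-!
Similarities over a subfield for spaces with the basic hypotheses, dimension eight included.
-/

set_option autoImplicit false

namespace Cfsg.Agent.AutPOmega.Triality

open Module QuadraticMap Classical.Quad Matrix

section Basic

variable {ι : Type} [Fintype ι] [DecidableEq ι] {F : Type*} [Field F] {Q : QuadraticForm F (ι → F)} (hc : Pre Q)
include hc

theorem exists_value_one_pre : ∃ v, Q v = 1 := by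
  obtain ⟨a, b, hp, -⟩ := hc.pairs
  exact ⟨a 0 + b 0, by rw [Classical.Quad.map_add', (hp 0).ha, (hp 0).hb, (hp 0).hab]; ring⟩

theorem conjA_eq_one_iff_pre [Finite F] {g : Geo.quadSimilarityGroup (F := F) (⇑Q)} :
    conjA g = 1 ↔ g.1 ∈ Geo.scalars ι F := by
  constructor
  · intro h
    obtain ⟨a, ha, h2⟩ := scalar_of_conjA_pre hc h
    refine (Geo.mem_scalars_iff _).2 ⟨Units.mk0 a ha, Matrix.ext_of_mulVec_single fun i => ?_⟩
    rw [Units.val_mk0, Matrix.smul_mulVec, Matrix.one_mulVec, h2]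
  · intro h
    obtain ⟨a, ha⟩ := (Geo.mem_scalars_iff _).1 h
    rw [← (conjA (Q := Q)).map_one]
    refine Semi.aut_congr _ _ a.ne_zero fun v => ?_
    rw [Semi.ofSim_app, Semi.ofSim_app, ha, Matrix.smul_mulVec, Matrix.one_mulVec]
    simp

theorem aut_eq_pre [Finite F] {T S : Semi Q} (h : T.aut = S.aut) :
    T.σ = S.σ ∧ ∃ a : F, a ≠ 0 ∧ ∀ v, T.app v = a • S.app v := by
  obtain ⟨h1, a, ha, h2⟩ := (S.inv.comp T).eq_of_aut_eq_one' hc
    (by rw [Semi.aut_comp, Semi.aut_inv, h, inv_mul_cancel])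
  refine ⟨RingEquiv.ext fun t => ?_, S.σ a, (map_ne_zero S.σ).2 ha, fun v => ?_⟩
  · have := congrArg S.σ (RingEquiv.congr_fun h1 t)
    exact (S.σ.apply_symm_apply (T.σ t)).symm.trans this
  · have := congrArg S.app (h2 v)
    rwa [Semi.app_comp, Semi.app_inv', S.app_inv, S.app_smul] at this

end Basic

variable {ι : Type} [Fintype ι] [DecidableEq ι] {F F₀ : Type*} [Field F] [Field F₀] {Q : QuadraticForm F (ι → F)}
  {Q₀ : QuadraticForm F₀ (ι → F₀)} {i : F₀ →+* F} (hQ : ∀ v : ι → F₀, Q (fun j => i (v j)) = i (Q₀ v))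
  [Finite F] [Finite F₀]
include hQ

theorem conjA_mapGO_eq_one_pre (hc : Pre Q) (hc₀ : Pre Q₀) (g : Geo.quadSimilarityGroup (F := F₀) (⇑Q₀)) :
    conjA (mapGO hQ g) = 1 ↔ conjA g = 1 := by
  rw [conjA_eq_one_iff_pre hc, conjA_eq_one_iff_pre hc₀, Geo.mem_scalars_iff, Geo.mem_scalars_iff, mat_mapGO hQ]
  obtain ⟨a, b, hp, -⟩ := hc₀.pairs
  obtain ⟨j, hj⟩ := Function.ne_iff.1 (hp 0).a_ne
  constructor
  · rintro ⟨c, hcg⟩
    have h1 : ∀ x y, i (g.1.1 x y) = if x = y then (c : F) else 0 := fun x y => by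
      have := congrFun (congrFun hcg x) y
      simpa [Matrix.map_apply, Matrix.one_apply] using this
    have hd : g.1.1 j j ≠ 0 := fun h0 => c.ne_zero (by
      have := h1 j j
      rw [h0, map_zero, if_pos rfl] at this
      exact this.symm)
    refine ⟨Units.mk0 _ hd, Matrix.ext fun x y => i.injective ?_⟩
    rw [h1, Units.val_mk0, Matrix.smul_apply, smul_eq_mul, map_mul, h1, if_pos rfl, Matrix.one_apply]
    by_cases hxy : x = y <;> simp [hxy]
  · rintro ⟨c, hcg⟩
    refine ⟨Units.map (i : F₀ →* F) c, Matrix.ext fun x y => ?_⟩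
    rw [Matrix.map_apply, hcg]
    by_cases hxy : x = y <;> simp [Matrix.one_apply, hxy]

/-- The similarities commuting with a standard field automorphism come from the fixed field. -/
theorem centralizer_std_pre (hc : Pre Q) (hc₀ : Pre Q₀) {σ : F ≃+* F} (hσ : ∀ v, Q (fun j => σ (v j)) = σ (Q v))
    (hi : ∀ x : F, σ x = x ↔ x ∈ i.range) :
    (conjA (Q := Q)).range ⊓ Subgroup.centralizer {(Semi.ofGal σ hσ).aut} = (mapGO hQ).range.map conjA := by
  ext x
  constructor
  · intro hx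
    obtain ⟨⟨g, rfl⟩, hcomm⟩ := Subgroup.mem_inf.1 hx
    rw [Subgroup.mem_centralizer_singleton_iff, conjA_apply, ← Semi.aut_comp, ← Semi.aut_comp] at hcomm
    obtain ⟨-, a, ha, hav⟩ := aut_eq_pre hc hcomm
    have : Nonempty ι := Fintype.card_pos_iff.1 (by have := hc.seven; omega)
    obtain ⟨x₀, y₀, hxy⟩ : ∃ x y, g.1.1 x y ≠ 0 := by
      by_contra h
      push Not at h
      exact (Matrix.GeneralLinearGroup.det_ne_zero g.1) (Matrix.det_eq_zero_of_row_eq_zero
        (Classical.arbitrary ι) (h _) )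
    have hent : ∀ x y, g.1.1 x y = a * σ (g.1.1 x y) := fun x y => by
      have h1 := congrFun (hav (Pi.single y 1)) x
      rw [Semi.app_comp, Semi.app_comp, Semi.ofSim_app, Semi.ofSim_app, Semi.ofGal_app, Semi.ofGal_app] at h1
      have hs : (fun j => σ ((Pi.single y 1 : ι → F) j)) = Pi.single y 1 := by
        funext j
        by_cases hj : j = y <;> simp [hj]
      rw [hs, Matrix.mulVec_single_one] at h1
      simpa using h1
    set u := g.1.1 x₀ y₀
    have hfix : ∀ x y, σ (u⁻¹ * g.1.1 x y) = u⁻¹ * g.1.1 x y := fun x y => by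
      have hσu : σ u ≠ 0 := (map_ne_zero σ).2 hxy
      rw [map_mul, map_inv₀]
      conv_rhs => rw [hent x y, show u = a * σ u from hent x₀ y₀]
      rw [mul_inv, mul_comm a⁻¹, mul_assoc, inv_mul_cancel_left₀ ha]
    choose M hM using fun x y => (hi _).1 (hfix x y)
    let M' : Matrix ι ι F₀ := M
    have hMmap : M'.map i = u⁻¹ • g.1.1 := Matrix.ext hM
    have hdet : M'.det ≠ 0 := fun h0 => by
      have h1 := RingHom.map_det i M'
      rw [h0, map_zero, RingHom.mapMatrix_apply, hMmap, Matrix.det_smul] at h1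
      exact mul_ne_zero (pow_ne_zero _ (inv_ne_zero hxy)) (Matrix.GeneralLinearGroup.det_ne_zero g.1) h1.symm
    let g₀ : GL ι F₀ := Matrix.GeneralLinearGroup.mkOfDetNeZero M' hdet
    obtain ⟨c, hcg⟩ := g.2
    obtain ⟨v₁, hv₁⟩ := exists_value_one_pre hc₀
    have hg₀ : ∀ v, i (Q₀ (g₀.1 *ᵥ v)) = u⁻¹ * u⁻¹ * c * i (Q₀ v) := fun v => by
      rw [← hQ, ← hQ, ← mulVec_map_apply, show g₀.1.map i = u⁻¹ • g.1.1 from hMmap, Matrix.smul_mulVec,
        Classical.Quad.map_smul', hcg]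
      ring
    set c₀ := Q₀ (g₀.1 *ᵥ v₁)
    have hc₀' : i c₀ = u⁻¹ * u⁻¹ * c := by
      have := hg₀ v₁
      rwa [hv₁, map_one, mul_one] at this
    have hc0 : c₀ ≠ 0 := fun h0 => by
      rw [h0, map_zero] at hc₀'
      exact mul_ne_zero (mul_ne_zero (inv_ne_zero hxy) (inv_ne_zero hxy)) c.ne_zero hc₀'.symm
    let G₀ : Geo.quadSimilarityGroup (F := F₀) (⇑Q₀) := ⟨g₀, Units.mk0 c₀ hc0, fun v => i.injective (by
      rw [hg₀, map_mul, Units.val_mk0, hc₀'])⟩
    refine ⟨mapGO hQ G₀, ⟨G₀, rfl⟩, Semi.aut_congr _ _ (inv_ne_zero hxy) fun v => ?_⟩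
    rw [Semi.ofSim_app, Semi.ofSim_app, mat_mapGO hQ, show G₀.1.1.map i = u⁻¹ • g.1.1 from hMmap,
      Matrix.smul_mulVec]
  · rintro ⟨_, ⟨g, rfl⟩, rfl⟩
    refine Subgroup.mem_inf.2 ⟨⟨_, rfl⟩, ?_⟩
    rw [Subgroup.mem_centralizer_singleton_iff, conjA_apply, ← Semi.aut_comp, ← Semi.aut_comp]
    refine Semi.aut_congr _ _ one_ne_zero fun v => ?_
    rw [one_smul, Semi.app_comp, Semi.app_comp, Semi.ofSim_app, Semi.ofSim_app, Semi.ofGal_app, Semi.ofGal_app,
      mat_mapGO hQ]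
    funext x
    rw [show σ ((g.1.1.map i *ᵥ v) x) = ((g.1.1.map i).map σ *ᵥ fun j => σ (v j)) x from
      RingHom.map_mulVec (σ : F →+* F) _ v x, show (g.1.1.map i).map σ = g.1.1.map i from
        Matrix.ext fun a b => (hi _).2 ⟨_, rfl⟩]

/-- A subgroup of similarities over the fixed field and its image. -/
theorem image_iso_pre (hc : Pre Q) (hc₀ : Pre Q₀) (S : Subgroup (Geo.quadSimilarityGroup (F := F₀) (⇑Q₀))) :
    Nonempty ((S.map (mapGO hQ)).map conjA ≃* S.map conjA) := by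
  let f₁ : S →* MulAut (Cfsg.POmega F ⇑Q) := (conjA.comp (mapGO hQ)).comp S.subtype
  let f₂ : S →* MulAut (Cfsg.POmega F₀ ⇑Q₀) := conjA.comp S.subtype
  have hker : f₁.ker = f₂.ker := Subgroup.ext fun g => conjA_mapGO_eq_one_pre hQ hc hc₀ g.1
  have h1 : f₁.range = (S.map (mapGO hQ)).map conjA := by
    rw [MonoidHom.range_comp, Subgroup.range_subtype, Subgroup.map_map]
  have h2 : f₂.range = S.map conjA := by rw [MonoidHom.range_comp, Subgroup.range_subtype]
  exact ⟨(MulEquiv.subgroupCongr h1.symm).trans (((QuotientGroup.quotientKerEquivRange f₁).symm.trans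
    (QuotientGroup.quotientMulEquivOfEq hker)).trans ((QuotientGroup.quotientKerEquivRange f₂).trans
      (MulEquiv.subgroupCongr h2)))⟩

end Cfsg.Agent.AutPOmega.Triality
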