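import Cfsg.Agent.AutPOmega.Triality.OddFour
import Cfsg.Agent.AutPOmega.Triality.SubfieldPre
import Cfsg.Agent.AutPOmega.PlusLang

/-!
Normality of the inner-diagonal group of a plus group, and transport of centralizers and class counts.
-/

set_option autoImplicit false

namespace Cfsg.Agent.AutPOmega.Triality

open Module QuadraticMap Matrix Classical.Quad

section Groups

variable {X : Type*} [Group X] [Finite X]

omit [Finite X] in
theorem map_conj_normal (K : Subgroup X) [hK : K.Normal] (a : X) :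
    K.map (MulAut.conj a).toMonoidHom = K := by
  refine le_antisymm ?_ fun y hy => ⟨a⁻¹ * y * a, ?_, ?_⟩
  · rintro _ ⟨z, hz, rfl⟩
    exact hK.conj_mem z hz a
  · have := hK.conj_mem y hy a⁻¹
    rwa [inv_inv] at this
  · show a * (a⁻¹ * y * a) * a⁻¹ = y
    group

omit [Finite X] in
theorem map_conj_centralizer (a x : X) :
    (Subgroup.centralizer {x}).map (MulAut.conj a).toMonoidHom = Subgroup.centralizer {a * x * a⁻¹} := by
  ext y
  rw [Subgroup.mem_map, Subgroup.mem_centralizer_singleton_iff]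
  constructor
  · rintro ⟨z, hz, rfl⟩
    rw [Subgroup.mem_centralizer_singleton_iff] at hz
    show a * z * a⁻¹ * (a * x * a⁻¹) = a * x * a⁻¹ * (a * z * a⁻¹)
    rw [show a * z * a⁻¹ * (a * x * a⁻¹) = a * (z * x) * a⁻¹ by group, hz]
    group
  · intro hy
    refine ⟨a⁻¹ * y * a, ?_, ?_⟩
    · rw [Subgroup.mem_centralizer_singleton_iff]
      rw [show a⁻¹ * y * a * x = a⁻¹ * (y * (a * x * a⁻¹)) * a by group, hy]
      group
    · show a * (a⁻¹ * y * a) * a⁻¹ = y
      group

omit [Finite X] in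
theorem centralizer_conj_iso (H : Subgroup X) [H.Normal] (a x : X) :
    Nonempty (↥(H ⊓ Subgroup.centralizer {x}) ≃* ↥(H ⊓ Subgroup.centralizer {a * x * a⁻¹})) := by
  have h : (H ⊓ Subgroup.centralizer {x}).map (MulAut.conj a).toMonoidHom =
      H ⊓ Subgroup.centralizer {a * x * a⁻¹} := by
    rw [Subgroup.map_inf _ _ _ (MulAut.conj a).injective, map_conj_normal, map_conj_centralizer]
  exact ⟨(Subgroup.equivMapOfInjective _ _ (MulAut.conj a).injective).trans (MulEquiv.subgroupCongr h)⟩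

theorem splitClassCount_normal (H K : Subgroup X) [H.Normal] [K.Normal] (hKH : K ≤ H) (a x : X) :
    Cfsg.splitClassCount H K (a * x * a⁻¹) = Cfsg.splitClassCount H K x := by
  rw [AutPSL.splitClassCount_eq_relIndex _ _ hKH, AutPSL.splitClassCount_eq_relIndex _ _ hKH,
    ← Subgroup.relIndex_map_map_of_injective (f := (MulAut.conj a).toMonoidHom) (K ⊔ (H ⊓ Subgroup.centralizer {x})) H
      (MulAut.conj a).injective,
    Subgroup.map_sup, Subgroup.map_inf _ _ _ (MulAut.conj a).injective, map_conj_normal, map_conj_normal,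
    map_conj_centralizer]

theorem mem_normalizer_of_le {H : Subgroup X} {b : X} (h : ∀ y ∈ H, b * y * b⁻¹ ∈ H) :
    b ∈ Subgroup.normalizer (H : Set X) :=
  Subgroup.mem_normalizer_fintype h

end Groups

variable {F : Type*} [Field F] [Fintype F] {m : ℕ}

/-- The kernel of the similarities on the automorphism group preserves parity. -/
theorem parP_eq_of_conjA (hm : 4 ≤ m) {g h : Geo.quadSimilarityGroup (F := F) (⇑(qPlus F m))}
    (e : conjA g = conjA h) : parP (F := F) (by omega : 3 ≤ m) g = parP (F := F) (by omega : 3 ≤ m) h := by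
  have h1 : conjA (h⁻¹ * g) = 1 := by rw [map_mul, map_inv, e, inv_mul_cancel]
  obtain ⟨a, ha⟩ := (Geo.mem_scalars_iff _).1 ((conjA_eq_one_iff_pre (pre_plus hm)).1 h1)
  have h2 : h⁻¹ * g = scalarSim a := Subtype.ext (Units.ext (Matrix.ext_of_mulVec_single fun j => by
    rw [scalarSim_mulVec, ha, Matrix.smul_mulVec, Matrix.one_mulVec]))
  have := congrArg (parP (F := F) (by omega : 3 ≤ m)) h2
  rwa [map_mul, map_inv, parP_scalar, inv_mul_eq_one, eq_comm] at this

theorem conjA_mem_inndiagQ (hm : 4 ≤ m) {g : Geo.quadSimilarityGroup (F := F) (⇑(qPlus F m))} :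
    conjA g ∈ inndiagQ (F := F) (by omega : 3 ≤ m) ↔ parP (F := F) (by omega : 3 ≤ m) g = 1 :=
  ⟨fun ⟨_, hh, e⟩ => (parP_eq_of_conjA hm e.symm).trans hh, fun h => ⟨g, h, rfl⟩⟩

/-- In characteristic two the inner-diagonal group is inner. -/
theorem inndiagQ_two [CharP F 2] (hm : 4 ≤ m) :
    inndiagQ (F := F) (by omega : 3 ≤ m) = Cfsg.Inn (Cfsg.POmega F ⇑(qPlus F m)) := by
  have hin : Cfsg.Inn (Cfsg.POmega F ⇑(qPlus F m)) ≤ inndiagQ (F := F) (by omega : 3 ≤ m) := by
    rw [inn_eq]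
    rintro _ ⟨_, ⟨s, rfl⟩, rfl⟩
    refine ⟨omToSim s, ?_, rfl⟩
    rw [SetLike.mem_coe, MonoidHom.mem_ker]
    show parP (F := F) _ (isoToSim s.1) = 1
    rw [parP_iso]
    exact Abelianization.commutator_subset_ker _ ((mem_omega_iff s.1).1 s.2)
  refine le_antisymm (fun x hx => ?_) hin
  let j : Fin m := ⟨0, by omega⟩
  refine (range_two_cases hm j (inndiagQ_le _ hx)).resolve_right fun h => ?_
  have h1 := mul_mem hx (inv_mem (hin h))
  rw [_root_.mul_inv_rev, inv_inv, mul_inv_cancel_left, conjA_mem_inndiagQ hm, parP, parG_swap (by omega)] at h1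
  exact absurd h1 (by decide)

section Four

theorem conj_comm_mem (hodd : Odd (Fintype.card F)) {b d s : MulAut (Cfsg.POmega F ⇑(qPlus F 4))}
    (hd : b * d * b⁻¹ ∈ (conjA (Q := qPlus F 4)).range) (hs : b * s = s * b)
    (hsR : s ∈ (conjA (Q := qPlus F 4)).range) :
    b * (d * s * d⁻¹ * s⁻¹) * b⁻¹ ∈ inndiagQ (F := F) (by omega : 3 ≤ 4) := by
  rw [show b * (d * s * d⁻¹ * s⁻¹) * b⁻¹ = (b * d * b⁻¹) * (b * s * b⁻¹) * (b * d * b⁻¹)⁻¹ * (b * s * b⁻¹)⁻¹ by
    group, hs, mul_inv_cancel_right]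
  exact pso_le_inndiagQ _ hodd (comm_mem_pso (by omega) hodd hd hsR)

/-- The inner-diagonal group of a plus group of dimension eight is normal. -/
theorem inndiagQ_normal_four : (inndiagQ (F := F) (by omega : 3 ≤ 4)).Normal := by
  have hm : 3 ≤ 4 := by omega
  by_cases hodd : Odd (Fintype.card F)
  swap
  · have hc2 : ringChar F = 2 := by
      by_contra h
      exact hodd (Nat.odd_iff.2 (FiniteField.odd_card_of_char_ne_two h))
    haveI : CharP F 2 := hc2 ▸ ringChar.charP F
    rw [inndiagQ_two le_rfl]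
    infer_instance
  obtain ⟨c, -, hc, -, -, -, -⟩ := exists_outer (F := F) hm hodd
  obtain ⟨β, hβP, hβN, hθd, hθβ⟩ := exists_partner hodd hc
  set M := inndiagQ (F := F) hm
  set N := Cfsg.Inn (Cfsg.POmega F ⇑(qPlus F 4))
  have hB : Fintype.card F ^ 4 % 4 = 1 := by
    rw [Nat.pow_mod]
    rcases (show Fintype.card F % 4 = 1 ∨ Fintype.card F % 4 = 3 by have := Nat.odd_iff.1 hodd; omega) with h | h <;>
      rw [h] <;> norm_num
  -- normalising from the images of two generators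
  have key : ∀ b z, z ∈ Cfsg.psoAut F ⇑(qPlus F 4) → z ∉ N → b * conjA (dSim (m := 4) c) * b⁻¹ ∈ M →
      b * z * b⁻¹ ∈ M → b ∈ Subgroup.normalizer (M : Set (MulAut (Cfsg.POmega F ⇑(qPlus F 4)))) := fun b z hz hzN h1 h2 => by
    refine mem_normalizer_of_le fun y hy => ?_
    let C : Subgroup (MulAut (Cfsg.POmega F ⇑(qPlus F 4))) := M.comap (MulAut.conj b).toMonoidHom
    have hN : N ≤ C := fun w hw => inn_le_inndiagQ hm hodd ((inferInstance : N.Normal).conj_mem w hw b)
    have hP : Cfsg.psoAut F ⇑(qPlus F 4) ≤ C := fun w hw => by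
      rcases two_cases (relIndex_inn_pso hm hodd hB) hz hzN hw with h | h
      · exact hN h
      · simpa only [mul_inv_cancel_left] using mul_mem (show z ∈ C from h2) (hN h)
    rcases two_cases (relIndex_pso_inndiag hm hodd) (dSim_mem hm hodd c) (dSim_not_pso hm hodd hc) hy with h | h
    · exact hP h
    · have := mul_mem (show conjA (dSim (m := 4) c) ∈ C from h1) (hP h)
      rw [mul_inv_cancel_left] at this
      exact this
  refine ⟨fun y hy g => ?_⟩
  suffices hall : ∀ g, g ∈ Subgroup.normalizer (M : Set (MulAut (Cfsg.POmega F ⇑(qPlus F 4)))) from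
    (Subgroup.mem_set_normalizer_iff.1 (hall g) y).1 hy
  have hR : ∀ g ∈ (conjA (Q := qPlus F 4)).range, g ∈ Subgroup.normalizer (M : Set (MulAut (Cfsg.POmega F ⇑(qPlus F 4)))) := fun g hg =>
    mem_normalizer_of_le fun w hw => by
      haveI := Subgroup.normal_of_index_eq_two (H := M.subgroupOf (conjA (Q := qPlus F 4)).range)
        (relIndex_inndiagQ hm hodd)
      exact (inferInstance : (M.subgroupOf (conjA (Q := qPlus F 4)).range).Normal).conj_mem
        ⟨w, inndiagQ_le hm hw⟩ hw ⟨g, hg⟩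
  have hθ : theta ∈ Subgroup.normalizer (M : Set (MulAut (Cfsg.POmega F ⇑(qPlus F 4)))) := key theta β hβP hβN
    (by rw [hθd, mul_inv_cancel_right]; exact pso_le_inndiagQ hm hodd hβP)
    (by rw [hθβ, mul_inv_cancel_right]; exact dSim_mem hm hodd c)
  have hφ : ∀ σ, fieldAut F 4 σ ∈ Subgroup.normalizer (M : Set (MulAut (Cfsg.POmega F ⇑(qPlus F 4)))) := fun σ =>
    key _ (conjA (dSim (m := 4) c) * sigP hm * (conjA (dSim c))⁻¹ * (sigP hm)⁻¹)
      (comm_mem_pso hm hodd ⟨_, rfl⟩ ⟨_, rfl⟩) (commutator_dSim hm hodd hB hc)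
      (by rw [fieldAut_dSim, mul_inv_cancel_right]; exact dSim_mem hm hodd _)
      (conj_comm_mem hodd (by rw [fieldAut_dSim, mul_inv_cancel_right]; exact ⟨_, rfl⟩)
        (fieldAut_sigP hm σ).symm ⟨_, rfl⟩)
  intro g
  have hg : ∀ h ∈ gam F, h ∈ Subgroup.normalizer (M : Set (MulAut (Cfsg.POmega F ⇑(qPlus F 4)))) := fun h hh => by
    have hmem : h * (fieldAut F 4 (gal8 h))⁻¹ ∈ gam F ⊓ (gal8 (F := F)).ker := by
      refine Subgroup.mem_inf.2 ⟨mul_mem hh (inv_mem (show fieldAut F 4 (gal8 h) ∈ gam F from mem_gam_iff.2 ⟨_, rfl⟩)), ?_⟩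
      show gal8 (h * (fieldAut F 4 (gal8 h))⁻¹) = 1
      rw [map_mul, map_inv, show gal8 (fieldAut F 4 (gal8 h)) = gal8 h from gal8_aut _, mul_inv_cancel]
    rw [gam_inf_ker] at hmem
    simpa only [inv_mul_cancel_right] using mul_mem (hR _ hmem) (hφ (gal8 h))
  rcases decomp g with h | h | h
  · exact hg g h
  · simpa only [mul_inv_cancel_left] using mul_mem hθ (hg _ h)
  · simpa only [mul_inv_cancel_left] using mul_mem (mul_mem (hR (sig (F := F)) ⟨_, rfl⟩) hθ) (hg _ h)

end Four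

/-- The inner-diagonal group of a plus group is normal. -/
theorem inndiag_normal (hm : 4 ≤ m) : (Cfsg.inndiagPOmegaPlus m F).Normal := by
  rcases (show m = 4 ∨ 5 ≤ m by omega) with rfl | h5
  · have e : Cfsg.inndiagPOmegaPlus 4 F = inndiagQ (F := F) (by omega : 3 ≤ 4) := inndiag_plus_eq _
    rw [e]
    exact inndiagQ_normal_four
  · obtain ⟨k, rfl⟩ : ∃ k, m = k + 1 := ⟨m - 1, by omega⟩
    rw [inndiag_plus h5]
    exact ⟨fun x hx g => ⟨(MonoidHom.normal_ker _).conj_mem x hx.1 g, (MonoidHom.normal_ker _).conj_mem x hx.2 g⟩⟩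

end Cfsg.Agent.AutPOmega.Triality
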