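import Cfsg.Agent.AutPOmega.Triality.FieldConj

/-!
Field automorphisms of prime order of the plus groups, dimension eight included: centralizers and classes.
-/

set_option autoImplicit false

namespace Cfsg.Agent.AutPOmega.Triality

open Module QuadraticMap Matrix Classical.Quad

variable {F F₀ : Type*} [Field F] [Fintype F] [Field F₀] [Fintype F₀] {m : ℕ} (hm : 4 ≤ m) (i : F₀ →+* F)

omit [Fintype F] [Fintype F₀] in
theorem mapGO_dSim (c : F₀ˣ) :
    mapGO (Q := qPlus F m) (Q₀ := qPlus F₀ m) (qPlus_map i) (dSim c) = dSim (Units.map (i : F₀ →* F) c) := by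
  refine Subtype.ext (Units.ext ?_)
  rw [mat_mapGO (qPlus_map i), dSim_val, dSim_val, Matrix.diagonal_map (map_zero i)]
  congr 1
  funext l
  rcases l with l | l <;> simp

omit [Fintype F] [Fintype F₀] in
theorem mapGO_iso (s : Cfsg.isometryGroup F₀ ⇑(qPlus F₀ m)) :
    mapGO (Q := qPlus F m) (Q₀ := qPlus F₀ m) (qPlus_map i) (isoToSim s) = isoToSim (mapI (qPlus_map i) s) :=
  Subtype.ext rfl

omit [Fintype F] [Fintype F₀] in
theorem mem_of_inv_mul {G : Type*} [Group G] {H : Subgroup G} {a z : G} (ha : a ∈ H) (h : a⁻¹ * z ∈ H) : z ∈ H := by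
  simpa only [mul_inv_cancel_left] using mul_mem ha h

include hm

/-- A similarity of the plus space as scaling times isometry. -/
theorem exists_dSim_iso (g : Geo.quadSimilarityGroup (F := F) (⇑(qPlus F m))) :
    ∃ (c : Fˣ) (s : Cfsg.isometryGroup F ⇑(qPlus F m)), g = dSim c * isoToSim s ∧
      parP (F := F) (by omega : 3 ≤ m) g =
        dickson nondeg_qPlus (hyp_plus (F := F) (by omega : 3 ≤ m)).hex (oEquiv _ s) := by
  have hm3 : 3 ≤ m := by omega
  have hmem : (dSim (multP hm3 g))⁻¹ * g ∈ (multP (F := F) hm3).ker := by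
    rw [MonoidHom.mem_ker, map_mul, map_inv, multP_dSim hm3, inv_mul_cancel]
  rw [ker_mult0] at hmem
  obtain ⟨s, hs⟩ := hmem
  have e : g = dSim (multP hm3 g) * isoToSim s := by rw [hs, mul_inv_cancel_left]
  refine ⟨multP hm3 g, s, e, ?_⟩
  conv_lhs => rw [e, map_mul, parP_dSim, one_mul, parP_iso]

theorem parP_mapGO (g : Geo.quadSimilarityGroup (F := F₀) (⇑(qPlus F₀ m))) :
    parP (F := F) (by omega : 3 ≤ m) (mapGO (qPlus_map i) g) = parP (F := F₀) (by omega : 3 ≤ m) g := by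
  obtain ⟨c, s, e, hp⟩ := exists_dSim_iso hm g
  rw [hp, e, map_mul, mapGO_dSim, mapGO_iso, map_mul, parP_dSim, one_mul, parP_iso]
  exact dickson_mapI (qPlus_map i) nondeg_qPlus nondeg_qPlus _ _ s

theorem parP_eq_dickson (g : Cfsg.isometryGroup F ⇑(qPlus F m)) :
    parP (F := F) (by omega : 3 ≤ m) (isoToSim g) =
      dickson nondeg_qPlus (hyp_plus (F := F) (by omega : 3 ≤ m)).hex (oEquiv _ g) := parP_iso _ g

/-- The inner-diagonal centralizer of a standard field automorphism. -/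
theorem centralizer_inndiag {σ : F ≃+* F} (hi : ∀ x : F, σ x = x ↔ x ∈ i.range) :
    inndiagQ (F := F) (by omega : 3 ≤ m) ⊓ Subgroup.centralizer {fieldAut F m σ} =
      ((parP (F := F₀) (by omega : 3 ≤ m)).ker.map (mapGO (qPlus_map i))).map conjA := by
  have hcs := centralizer_std_pre (Q := qPlus F m) (Q₀ := qPlus F₀ m) (qPlus_map i) (pre_plus hm) (pre_plus hm)
    (qPlus_gal σ) hi
  ext x
  constructor
  · intro hx
    have hx' : x ∈ ((mapGO (Q := qPlus F m) (Q₀ := qPlus F₀ m) (qPlus_map i)).range.map conjA :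
        Subgroup (MulAut (Cfsg.POmega F ⇑(qPlus F m)))) := by
      rw [← hcs]
      exact ⟨inndiagQ_le _ hx.1, hx.2⟩
    obtain ⟨_, ⟨g, rfl⟩, rfl⟩ := hx'
    refine ⟨_, ⟨g, ?_, rfl⟩, rfl⟩
    rw [SetLike.mem_coe, MonoidHom.mem_ker, ← parP_mapGO hm i]
    exact (conjA_mem_inndiagQ hm).1 hx.1
  · rintro ⟨_, ⟨g, hg, rfl⟩, rfl⟩
    have h : conjA (mapGO (qPlus_map i) g) ∈ (conjA (Q := qPlus F m)).range ⊓
        Subgroup.centralizer {(Semi.ofGal σ (qPlus_gal (m := m) σ)).aut} := by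
      rw [hcs]
      exact ⟨_, ⟨g, rfl⟩, rfl⟩
    exact Subgroup.mem_inf.2 ⟨(conjA_mem_inndiagQ hm).2 ((parP_mapGO hm i g).trans hg), h.2⟩

theorem centralizer_inndiag_iso {σ : F ≃+* F} (hi : ∀ x : F, σ x = x ↔ x ∈ i.range) :
    Nonempty (↥(inndiagQ (F := F) (by omega : 3 ≤ m) ⊓ Subgroup.centralizer {fieldAut F m σ}) ≃*
      ↥(inndiagQ (F := F₀) (by omega : 3 ≤ m))) := by
  rw [centralizer_inndiag hm i hi]
  exact image_iso_pre (qPlus_map i) (pre_plus hm) (pre_plus hm) _

omit hm in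
theorem qs_map (hsq : ∀ x : F₀, IsSquare (i x)) (x : F₀) : qs (i x) = 1 := qs_eq_one.2 (hsq x)

/-- If the subfield consists of squares, its special isometries are inner. -/
theorem mapI_inn (hodd : Odd (Fintype.card F)) (hsq : ∀ x : F₀, IsSquare (i x))
    {s : Cfsg.isometryGroup F₀ ⇑(qPlus F₀ m)}
    (hs : dickson nondeg_qPlus (hyp_plus (F := F₀) (by omega : 3 ≤ m)).hex (oEquiv _ s) = 1) :
    conjA (isoToSim (mapI (qPlus_map i) s)) ∈ Cfsg.Inn (Cfsg.POmega F ⇑(qPlus F m)) := by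
  have h2 := two_ne_zero_of_odd hodd
  have hex₀ := (hyp_plus (F := F₀) (by omega : 3 ≤ m)).hex
  have hex := (hyp_plus (F := F) (by omega : 3 ≤ m)).hex
  refine mem_inn_of_omega ((mem_omega_iff _).2 ((mem_commutator_chars nondeg_qPlus hex _).2 ⟨?_, fun _ => ?_⟩))
  · rw [dickson_mapI (qPlus_map i) nondeg_qPlus nondeg_qPlus hex₀ hex, hs]
  · have e : ((spin (qPlus F m)).comp (oEquiv _).toMonoidHom).comp
        ((mapI (qPlus_map i)).comp (oEquiv (qPlus F₀ m)).symm.toMonoidHom) = dickson nondeg_qPlus hex₀ := by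
      refine MonoidHom.eq_of_eqOn_dense (closure_reflSet nondeg_qPlus hex₀) ?_
      rintro _ ⟨v, hv, rfl⟩
      simp only [MonoidHom.comp_apply, MulEquiv.coe_toMonoidHom]
      rw [mapI_rO _ hv, spin_rO_qs h2, dickson_rO, qPlus_map, qs_map i hsq]
    have := DFunLike.congr_fun e (oEquiv _ s)
    simp only [MonoidHom.comp_apply, MulEquiv.coe_toMonoidHom, MulEquiv.symm_apply_apply] at this
    rw [this, hs]

/-- A quotient of the inner-diagonal group by the inner one has exponent four. -/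
theorem dSim_pow_four (hodd : Odd (Fintype.card F)) (hB : Fintype.card F ^ m % 4 = 1) (w : Fˣ) :
    conjA (dSim (m := m) w) ^ 4 ∈ Cfsg.Inn (Cfsg.POmega F ⇑(qPlus F m)) := by
  have hm3 : 3 ≤ m := by omega
  have h := (card_quots_plus (F := F) hm3 hodd).2
  rw [if_pos hB] at h
  haveI : Finite (inndiagQ hm3 ⧸ (Cfsg.Inn (Cfsg.POmega F ⇑(qPlus F m))).subgroupOf (inndiagQ hm3)) :=
    Nat.finite_of_card_ne_zero (by rw [h]; norm_num)
  have h1 := pow_card_eq_one' (x := QuotientGroup.mk' ((Cfsg.Inn (Cfsg.POmega F ⇑(qPlus F m))).subgroupOf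
    (inndiagQ hm3)) ⟨_, dSim_mem hm3 hodd w⟩)
  rw [h, ← map_pow] at h1
  exact (quot_mk_eq_one (N := Cfsg.Inn (Cfsg.POmega F ⇑(qPlus F m)))
    (pow_mem (dSim_mem hm3 hodd w) 4)).1 h1

theorem split_count_field_two [CharP F 2] {σ : F ≃+* F} :
    Cfsg.splitClassCount (inndiagQ (F := F) (by omega : 3 ≤ m)) (Cfsg.Inn (Cfsg.POmega F ⇑(qPlus F m)))
      (fieldAut F m σ) = 1 := by
  rw [AutPSL.splitClassCount_eq_relIndex _ _ (inndiagQ_two hm).ge, Subgroup.relIndex_eq_one, inndiagQ_two hm]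
  exact le_sup_left

theorem split_count_field_odd (hodd : Odd (Fintype.card F)) {σ : F ≃+* F} (hi : ∀ x : F, σ x = x ↔ x ∈ i.range)
    {r : ℕ} (hr : orderOf σ = r) (hF : Fintype.card F = Fintype.card F₀ ^ r) :
    (Odd r → Cfsg.splitClassCount (inndiagQ (F := F) (by omega : 3 ≤ m)) (Cfsg.Inn (Cfsg.POmega F ⇑(qPlus F m)))
      (fieldAut F m σ) = 1) ∧
    (r = 2 → Cfsg.splitClassCount (inndiagQ (F := F) (by omega : 3 ≤ m)) (Cfsg.Inn (Cfsg.POmega F ⇑(qPlus F m)))
      (fieldAut F m σ) = if Odd m ∧ Fintype.card F₀ % 4 = 1 then 2 else 4) := by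
  classical
  have hm3 : 3 ≤ m := by omega
  have h2 := two_ne_zero_of_odd hodd
  have h2₀ : (2 : F₀) ≠ 0 := fun h => h2 (by rw [← map_ofNat i 2, h, map_zero])
  set N := Cfsg.Inn (Cfsg.POmega F ⇑(qPlus F m))
  set M := inndiagQ (F := F) hm3
  have hNM : N ≤ M := inn_le_inndiagQ hm3 hodd
  rw [AutPSL.splitClassCount_eq_relIndex _ _ hNM]
  set C := M ⊓ Subgroup.centralizer {fieldAut F m σ}
  have hC : C = ((parP (F := F₀) hm3).ker.map (mapGO (qPlus_map i))).map conjA := centralizer_inndiag hm i hi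
  have hchar₀ : ringChar F₀ ≠ 2 := fun h => h2₀ (by
    have : CharP F₀ 2 := h ▸ ringChar.charP F₀
    exact CharTwo.two_eq_zero)
  obtain ⟨n, hn⟩ := FiniteField.exists_nonsquare hchar₀
  have hn0 : n ≠ 0 := fun h => hn (h ▸ IsSquare.zero)
  have hmemC : ∀ c : F₀ˣ, conjA (dSim (m := m) (Units.map (i : F₀ →* F) c)) ∈ C := fun c => by
    rw [hC]
    exact ⟨_, ⟨dSim c, parP_dSim hm3 c, rfl⟩, by rw [mapGO_dSim]⟩
  constructor
  · intro hro
    set d := conjA (dSim (m := m) (Units.map (i : F₀ →* F) (Units.mk0 n hn0)))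
    have hd : ¬ IsSquare ((Units.map (i : F₀ →* F) (Units.mk0 n hn0) : Fˣ) : F) :=
      not_isSquare_of_odd i hi hr hro hn
    have hdC : d ∈ N ⊔ C := Subgroup.mem_sup_right (hmemC _)
    have hpso : Cfsg.psoAut F ⇑(qPlus F m) ≤ N ⊔ C := by
      by_cases hB : Fintype.card F ^ m % 4 = 1
      · intro z hz
        have hsC : sigP hm3 * d⁻¹ * (sigP hm3)⁻¹ ∈ C := by
          refine Subgroup.mem_inf.2 ⟨?_, ?_⟩
          · haveI := Subgroup.normal_of_index_eq_two (H := M.subgroupOf (conjA (Q := qPlus F m)).range)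
              (relIndex_inndiagQ hm3 hodd)
            exact (inferInstance : (M.subgroupOf (conjA (Q := qPlus F m)).range).Normal).conj_mem
              ⟨d⁻¹, inv_mem (show d ∈ (conjA (Q := qPlus F m)).range from ⟨_, rfl⟩)⟩
              (inv_mem (show d ∈ M from dSim_mem hm3 hodd _)) ⟨sigP hm3, ⟨_, rfl⟩⟩
          · have h1 : d⁻¹ ∈ Subgroup.centralizer {fieldAut F m σ} := inv_mem (hmemC _).2
            have h3 : sigP hm3 ∈ Subgroup.centralizer {fieldAut F m σ} :=
              Subgroup.mem_centralizer_singleton_iff.2 (fieldAut_sigP hm3 σ).eq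
            exact mul_mem (mul_mem h3 h1) (inv_mem h3)
        have hbC : d * sigP hm3 * d⁻¹ * (sigP hm3)⁻¹ ∈ N ⊔ C := by
          rw [show d * sigP hm3 * d⁻¹ * (sigP hm3)⁻¹ = d * (sigP hm3 * d⁻¹ * (sigP hm3)⁻¹) by group]
          exact mul_mem hdC (Subgroup.mem_sup_right hsC)
        rcases two_cases (relIndex_inn_pso hm3 hodd hB) (comm_mem_pso hm3 hodd ⟨_, rfl⟩ ⟨_, rfl⟩)
          (commutator_dSim hm3 hodd hB hd) hz with h | h
        · exact Subgroup.mem_sup_left h
        · exact mem_of_inv_mul hbC (Subgroup.mem_sup_left h)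
      · rw [pso_eq_inn hm3 hodd hB]; exact le_sup_left
    rw [Subgroup.relIndex_eq_one]
    intro z hz
    rcases two_cases (relIndex_pso_inndiag hm3 hodd) (dSim_mem hm3 hodd _) (dSim_not_pso hm3 hodd hd) hz with h | h
    · exact hpso h
    · exact mem_of_inv_mul hdC (hpso h)
  · intro hr2
    subst hr2
    have hsq : ∀ x : F₀, IsSquare (i x) := isSquare_of_two hodd i hF
    have hB : Fintype.card F ^ m % 4 = 1 := by
      have h1 : Fintype.card F₀ % 2 = 1 := FiniteField.odd_card_of_char_ne_two hchar₀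
      rw [hF, ← pow_mul, mul_comm 2 m, pow_mul, Nat.pow_mod]
      rcases (show Fintype.card F₀ ^ m % 4 = 1 ∨ Fintype.card F₀ ^ m % 4 = 3 by
        have h3 : Fintype.card F₀ ^ m % 2 = 1 := by simp [Nat.pow_mod, h1]
        omega) with h | h <;> rw [h] <;> norm_num
    have hchar : ringChar F ≠ 2 := fun h => h2 (by
      have : CharP F 2 := h ▸ ringChar.charP F
      exact CharTwo.two_eq_zero)
    obtain ⟨k, hk⟩ : ∃ k, Fintype.card F₀ = 2 * k + 1 :=
      ⟨Fintype.card F₀ / 2, by have := FiniteField.odd_card_of_char_ne_two hchar₀; omega⟩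
    -- the character of a square root of an element of the subfield
    have hroot : ∀ (c : F₀) (e : F), e ≠ 0 → i c = e * e →
        (IsSquare e ↔ i ((c ^ k) ^ (k + 1)) = 1) := fun c e he hce => by
      rw [FiniteField.isSquare_iff hchar he, map_pow, map_pow, hce, ← pow_two, ← pow_mul, ← pow_mul,
        show Fintype.card F / 2 = 2 * (k * (k + 1)) by
          rw [hF, hk, show (2 * k + 1) ^ 2 = 2 * (2 * (k * (k + 1))) + 1 by ring]
          omega]
    have hdich : ∀ c : F₀, c ≠ 0 → c ^ k = 1 ∨ c ^ k = -1 := fun c hc => by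
      have := FiniteField.pow_dichotomy hchar₀ hc
      rwa [show Fintype.card F₀ / 2 = k by omega] at this
    have hk4 : Fintype.card F₀ % 4 = 1 ↔ Even k := by rw [Nat.even_iff]; omega
    have himg : ∀ x ∈ C, ∃ e : Fˣ, (∃ c : F₀, i c = (e : F) * e) ∧
        (conjA (dSim (m := m) e) * conjA (dSim e))⁻¹ * x ∈ N := fun x hx => by
      rw [hC] at hx
      obtain ⟨_, ⟨g, hg, rfl⟩, rfl⟩ := hx
      obtain ⟨c, s, e, hp⟩ := exists_dSim_iso hm g
      obtain ⟨u, hu⟩ := hsq (c : F₀)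
      have hu0 : u ≠ 0 := fun h => (Units.map (i : F₀ →* F) c).ne_zero (show i (c : F₀) = 0 by rw [hu, h, mul_zero])
      refine ⟨Units.mk0 u hu0, ⟨c, hu⟩, ?_⟩
      rw [e, map_mul, mapGO_dSim, mapGO_iso, ← map_mul, ← dSim_mul,
        show Units.mk0 u hu0 * Units.mk0 u hu0 = Units.map (i : F₀ →* F) c from Units.ext hu.symm, map_mul,
        inv_mul_cancel_left]
      exact mapI_inn hm i hodd hsq (hp.symm.trans hg)
    by_cases hcon : Odd m ∧ Fintype.card F₀ % 4 = 1
    · rw [if_pos hcon]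
      obtain ⟨e, he⟩ := hsq n
      have he0 : e ≠ 0 := fun h => (map_ne_zero i).2 hn0 (by rw [he, h, mul_zero])
      have hne : ¬ IsSquare e := fun h => h2 (by
        have h1 := (hroot n e he0 he).1 h
        rw [(hdich n hn0).resolve_left fun h' => hn ((FiniteField.isSquare_iff hchar₀ hn0).2
          (by rw [show Fintype.card F₀ / 2 = k by omega]; exact h')),
          (hk4.1 hcon.2).add_one.neg_one_pow, map_neg, map_one] at h1
        linear_combination -h1)
      have hsup : N ⊔ C = Cfsg.psoAut F ⇑(qPlus F m) := by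
        have hsq' : ∀ w : Fˣ, conjA (dSim (m := m) w) * conjA (dSim w) ∈ Cfsg.psoAut F ⇑(qPlus F m) := fun w =>
          Subgroup.mul_mem_iff_of_index_two (H := (Cfsg.psoAut F ⇑(qPlus F m)).subgroupOf M)
            (relIndex_pso_inndiag hm3 hodd) (a := ⟨_, dSim_mem hm3 hodd w⟩) (b := ⟨_, dSim_mem hm3 hodd w⟩) |>.2 Iff.rfl
        have hle : N ⊔ C ≤ Cfsg.psoAut F ⇑(qPlus F m) := sup_le (inn_le_pso_plus hm3 hodd) fun x hx => by
          obtain ⟨w, -, hw⟩ := himg x hx
          exact mem_of_inv_mul (hsq' w) (inn_le_pso_plus hm3 hodd hw)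
        refine le_antisymm hle fun z hz => ?_
        have hb : conjA (dSim (m := m) (Units.mk0 e he0)) * conjA (dSim (Units.mk0 e he0)) ∈ N ⊔ C := by
          refine Subgroup.mem_sup_right ?_
          rw [← map_mul, ← dSim_mul,
            show Units.mk0 e he0 * Units.mk0 e he0 = Units.map (i : F₀ →* F) (Units.mk0 n hn0) from Units.ext he.symm]
          exact hmemC _
        rcases two_cases (relIndex_inn_pso hm3 hodd hB) (hle hb)
          (dSim_sq_not_inn hm3 hodd hB hcon.1 (show ¬ IsSquare ((Units.mk0 e he0 : Fˣ) : F) from hne)) hz with h | h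
        · exact Subgroup.mem_sup_left h
        · exact mem_of_inv_mul hb (Subgroup.mem_sup_left h)
      rw [hsup, relIndex_pso_inndiag hm3 hodd]
    · rw [if_neg hcon]
      have hle : C ≤ N := fun x hx => by
        obtain ⟨w, ⟨c, hc⟩, hw⟩ := himg x hx
        suffices h : conjA (dSim (m := m) w) * conjA (dSim w) ∈ N by
          exact mem_of_inv_mul h hw
        rcases Nat.even_or_odd m with hme | hmo
        · exact sq_mem_of_klein ((inndiag_inn_plus hm3 hodd).2.2 hB hme) (dSim_mem hm3 hodd w)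
        · have hc0 : c ≠ 0 := fun h => by
            rw [h, map_zero] at hc
            exact mul_ne_zero w.ne_zero w.ne_zero hc.symm
          have hkodd : Even (k + 1) := (Nat.not_even_iff_odd.1 fun he => hcon ⟨hmo, hk4.2 he⟩).add_one
          obtain ⟨u, hu⟩ : IsSquare (w : F) := (hroot c (w : F) w.ne_zero hc).2 (by
            rcases hdich c hc0 with h | h <;> rw [h]
            · rw [one_pow, map_one]
            · rw [hkodd.neg_one_pow, map_one])
          have hu0 : u ≠ 0 := fun h => w.ne_zero (by rw [hu, h, mul_zero])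
          have h4 := dSim_pow_four hm hodd hB (Units.mk0 u hu0)
          rw [show w = Units.mk0 u hu0 * Units.mk0 u hu0 from Units.ext hu, dSim_mul, map_mul,
            show conjA (dSim (m := m) (Units.mk0 u hu0)) * conjA (dSim (Units.mk0 u hu0)) *
              (conjA (dSim (Units.mk0 u hu0)) * conjA (dSim (Units.mk0 u hu0))) =
              conjA (dSim (Units.mk0 u hu0)) ^ 4 by simp only [pow_succ, pow_zero, one_mul, mul_assoc]]
          exact h4
      rw [sup_eq_left.2 hle]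
      show (N.subgroupOf M).index = 4
      have h := (card_quots_plus (F := F) hm3 hodd).2
      rwa [if_pos hB] at h

/-- The statement on field automorphisms of prime order. -/
theorem field_plus_main {p f : ℕ} [Fact p.Prime] (hF : Fintype.card F = p ^ f) (hf : 1 ≤ f)
    {x : MulAut (Cfsg.POmega F ⇑(qPlus F m))} (hx : Cfsg.IsFieldAutClassPOmega (⇑(qPlus F m)) x) {r : ℕ}
    (hr : r.Prime) (hxr : orderOf x = r) (hF₀ : Fintype.card F₀ = p ^ (f / r)) :
    r ∣ f ∧ Nonempty (↥(inndiagQ (F := F) (by omega : 3 ≤ m) ⊓ Subgroup.centralizer {x}) ≃*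
        ↥(inndiagQ (F := F₀) (by omega : 3 ≤ m))) ∧
      Cfsg.splitClassCount (inndiagQ (F := F) (by omega : 3 ≤ m)) (Cfsg.Inn (Cfsg.POmega F ⇑(qPlus F m))) x =
        if p = 2 ∨ r ≠ 2 then 1 else if Odd m ∧ p ^ (f / 2) % 4 = 1 then 2 else 4 := by
  have hm3 : 3 ≤ m := by omega
  obtain ⟨α, φ, σ, hσ, hφ, hconj⟩ := hx
  have e2 : φ = fieldAut F m σ := (Semi.isFieldAut_iff (Q := qPlus F m) σ (qPlus_gal σ)).1 hφ
  subst e2
  have hinj : Function.Injective (fieldAut F m) := fun σ τ h => (aut_eq_pre (pre_plus hm) h).1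
  have hord : orderOf σ = r := by
    rw [← orderOf_injective (fieldAut F m) hinj, ← hconj, ← hxr]
    exact (MulEquiv.orderOf_eq (MulAut.conj α) x)
  have hrf : r ∣ f := by
    rw [← (AutPSL.card_gal (F := F) hf hF).2, ← hord]
    exact orderOf_dvd_natCard σ
  obtain ⟨j, hj⟩ := AutPSL.exists_fixed_embedding hF hord hrf F₀ hF₀
  haveI hGn : (inndiagQ (F := F) hm3).Normal := by
    have h := inndiag_normal (F := F) hm
    rwa [show Cfsg.inndiagPOmegaPlus m F = inndiagQ hm3 from inndiag_plus_eq hm3] at h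
  have hNG : Cfsg.Inn (Cfsg.POmega F ⇑(qPlus F m)) ≤ inndiagQ hm3 := by
    rw [inn_eq]
    rintro _ ⟨_, ⟨s, rfl⟩, rfl⟩
    refine ⟨omToSim s, ?_, rfl⟩
    show parP (F := F) hm3 (isoToSim s.1) = 1
    rw [parP_iso]
    exact Abelianization.commutator_subset_ker _ ((mem_omega_iff s.1).1 s.2)
  refine ⟨hrf, ?_, ?_⟩
  · obtain ⟨e1⟩ := centralizer_conj_iso (inndiagQ (F := F) hm3) α x
    obtain ⟨e3⟩ := centralizer_inndiag_iso hm j hj
    have h : inndiagQ (F := F) hm3 ⊓ Subgroup.centralizer {α * x * α⁻¹} =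
        inndiagQ hm3 ⊓ Subgroup.centralizer {fieldAut F m σ} := by rw [hconj]
    exact ⟨e1.trans ((MulEquiv.subgroupCongr h).trans e3)⟩
  · have hs := splitClassCount_normal (inndiagQ (F := F) hm3) (Cfsg.Inn (Cfsg.POmega F ⇑(qPlus F m))) hNG α x
    rw [hconj] at hs
    rw [← hs]
    have hcard : Fintype.card F = Fintype.card F₀ ^ r := by
      rw [hF₀, hF, ← pow_mul, Nat.div_mul_cancel hrf]
    by_cases hp : p = 2
    · subst hp
      haveI : CharP F 2 := AutPSL.charP_of_card hF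
      rw [if_pos (Or.inl rfl)]
      exact split_count_field_two hm
    · have hodd : Odd (Fintype.card F) := hF ▸ ((Fact.out : p.Prime).odd_of_ne_two hp).pow
      obtain ⟨h1, h2⟩ := split_count_field_odd hm j hodd hj hord hcard
      by_cases hr2 : r = 2
      · rw [if_neg (by simp [hp, hr2]), h2 hr2, hF₀, hr2]
      · rw [if_pos (Or.inr hr2)]
        exact h1 (hr.odd_of_ne_two hr2)

end Cfsg.Agent.AutPOmega.Triality
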