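import Cfsg.Agent.AutPOmega.Triality.OddOut
import Mathlib.GroupTheory.Sylow

/-!
The outer automorphism group of POmega+_8 in odd characteristic: triality acts on a four-group.
-/

set_option autoImplicit false

namespace Cfsg.Agent.AutPOmega.Triality

open Module QuadraticMap Matrix Classical.Quad

section Groups

variable {G : Type*} [Group G] [Finite G]

/-- A group of order 24 with a self-centralizing minimal normal subgroup of order four. -/
theorem perm_four (h24 : Nat.card G = 24) (V : Subgroup G) [V.Normal] (h4 : Nat.card V = 4)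
    (hC : Subgroup.centralizer (V : Set G) ≤ V) (hmin : ∀ W : Subgroup G, W.Normal → W ≤ V → W = ⊥ ∨ W = V) :
    Nonempty (G ≃* Equiv.Perm (Fin 4)) := by
  classical
  haveI : Fact (Nat.Prime 3) := ⟨Nat.prime_three⟩
  let P : Sylow 3 G := default
  have hP : Nat.card (P : Subgroup G) = 3 := by
    rw [P.card_eq_multiplicity, h24]
    have h : (24 : ℕ).factorization 3 = 1 := by
      rw [show (24 : ℕ) = 3 * 8 by norm_num, Nat.factorization_mul (by norm_num) (by norm_num), Finsupp.add_apply,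
        Nat.prime_three.factorization_self, Nat.factorization_eq_zero_of_not_dvd (by norm_num)]
    rw [h, pow_one]
  have hdisj : ∀ x : G, x ∈ (P : Subgroup G) → x ∈ V → x = 1 := fun x hx hx' => by
    have h1 := Subgroup.orderOf_dvd_natCard _ hx
    have h2 := Subgroup.orderOf_dvd_natCard _ hx'
    rw [hP] at h1
    rw [h4] at h2
    exact orderOf_eq_one_iff.1 (Nat.eq_one_of_dvd_coprimes (by norm_num : Nat.Coprime 3 4) h1 h2)
  have hn : ¬ (P : Subgroup G).Normal := fun hN => by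
    have hle : (P : Subgroup G) ≤ Subgroup.centralizer (V : Set G) := fun x hx => by
      rw [Subgroup.mem_centralizer_iff]
      intro v hv
      exact (Subgroup.commute_of_normal_of_disjoint V P inferInstance hN
        (disjoint_iff_inf_le.2 fun z hz => Subgroup.mem_bot.2 (hdisj z hz.2 hz.1)) v x hv hx).eq
    have h1 : ∀ x ∈ (P : Subgroup G), x = 1 := fun x hx => hdisj x hx (hC (hle hx))
    have : (P : Subgroup G) = ⊥ := (Subgroup.eq_bot_iff_forall _).2 h1
    rw [this, Subgroup.card_bot] at hP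
    norm_num at hP
  have hn3 : Nat.card (Sylow 3 G) = 4 := by
    have h1 := P.card_dvd_index
    have h2 : (P : Subgroup G).index = 8 := by
      have := (P : Subgroup G).index_mul_card
      rw [hP, h24] at this
      omega
    rw [h2] at h1
    have h3 : Nat.card (Sylow 3 G) % 3 = 1 % 3 := card_sylow_modEq_one 3 G
    have h5 : Nat.card (Sylow 3 G) ≠ 1 := fun h => hn (by
      haveI : Subsingleton (Sylow 3 G) := (Nat.card_eq_one_iff_unique.1 h).1
      exact P.normal_of_subsingleton)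
    have h6 : Nat.card (Sylow 3 G) ≤ 8 := Nat.le_of_dvd (by norm_num) h1
    interval_cases h : Nat.card (Sylow 3 G) <;> simp_all
  let f := MulAction.toPermHom G (Sylow 3 G)
  have hinj : Function.Injective f := by
    rw [← MonoidHom.ker_eq_bot_iff]
    have hKN : f.ker ≤ Subgroup.normalizer (P : Set G) := fun x hx => by
      rw [← Sylow.stabilizer_eq_normalizer, MulAction.mem_stabilizer_iff]
      exact Equiv.Perm.congr_fun (MonoidHom.mem_ker.1 hx) P
    have hN6 : Nat.card (Subgroup.normalizer (P : Set G)) = 6 := by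
      have := (Subgroup.normalizer (P : Set G)).index_mul_card
      rw [← P.card_eq_index_normalizer, hn3, h24] at this
      omega
    rcases hmin (f.ker ⊓ V) inferInstance inf_le_right with h | h
    · refine (Subgroup.eq_bot_iff_forall _).2 fun x hx => ?_
      have hxC : x ∈ Subgroup.centralizer (V : Set G) := by
        rw [Subgroup.mem_centralizer_iff]
        intro v hv
        exact (Subgroup.commute_of_normal_of_disjoint V f.ker inferInstance inferInstance
          (disjoint_iff.2 (by rw [inf_comm]; exact h)) v x hv hx).eq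
      exact (Subgroup.eq_bot_iff_forall _).1 h x ⟨hx, hC hxC⟩
    · exfalso
      have h1 := Subgroup.card_dvd_of_le (show V ≤ Subgroup.normalizer (P : Set G) from
        (inf_eq_right.1 h).trans hKN)
      rw [h4, hN6] at h1
      norm_num at h1
  let e : Sylow 3 G ≃ Fin 4 := Finite.equivFinOfCardEq hn3
  let f' := (e.permCongrHom : Equiv.Perm (Sylow 3 G) ≃* _).toMonoidHom.comp f
  have hinj' : Function.Injective f' := e.permCongrHom.injective.comp hinj
  refine ⟨MulEquiv.ofBijective f' ((Nat.bijective_iff_injective_and_card f').2 ⟨hinj', ?_⟩)⟩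
  rw [h24, Nat.card_eq_fintype_card, Fintype.card_perm, Fintype.card_fin]
  rfl

omit [Finite G] in
/-- Two transpositions of a four-group generate a symmetric group acting on it. -/
theorem four_action {D B S T : G} (hD : D ≠ 1) (hB : B ≠ 1) (hDB : D ≠ B)
    (hSB : S * B = B * S) (hSD : S * D = D * B * S) (hTD : T * D = B * T) (hTB : T * B = D * T)
    (hc : Commute D B) :
    (¬ Commute S D) ∧ (¬ Commute T D) ∧ (¬ Commute (T * S) B) ∧ (¬ Commute (S * T) D) ∧
      (¬ Commute (S * T * S) B) := by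
  refine ⟨fun h => hB ?_, fun h => hDB ?_, fun h => hDB ?_, fun h => hDB ?_, fun h => hD ?_⟩
  · have h1 := h.eq
    rw [hSD] at h1
    exact mul_eq_left.1 (mul_right_cancel h1)
  · have h1 := h.eq
    rw [hTD] at h1
    exact (mul_right_cancel h1).symm
  · have h1 := h.eq
    rw [mul_assoc, hSB, ← mul_assoc, hTB, mul_assoc] at h1
    exact mul_right_cancel h1
  · have h1 := h.eq
    rw [mul_assoc, hTD, ← mul_assoc, hSB, mul_assoc] at h1
    exact (mul_right_cancel h1).symm
  · have e : S * T * S * B = D * B * (S * T * S) := by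
      rw [mul_assoc (S * T) S B, hSB, ← mul_assoc, mul_assoc S T B, hTB, ← mul_assoc, hSD]
      simp only [mul_assoc]
    exact mul_eq_right.1 (mul_right_cancel (e.symm.trans h.eq))

/-- The group of triality, diagonal and graph automorphisms modulo the inner one. -/
theorem triality_quot (N P M R K : Subgroup G) [N.Normal] (hNP : N ≤ P) (hPM : P ≤ M) (hMR : M ≤ R) (hRK : R ≤ K)
    (iNP : N.relIndex P = 2) (iPM : P.relIndex M = 2) (iMR : M.relIndex R = 2) (iRK : R.relIndex K = 3)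
    {d β s θ : G} (hdM : d ∈ M) (hdP : d ∉ P) (hβP : β ∈ P) (hβN : β ∉ N) (hsR : s ∈ R) (hsM : s ∉ M) (hθK : θ ∈ K)
    (hcases : ∀ k ∈ K, k ∈ R ∨ θ⁻¹ * k ∈ R ∨ (s * θ)⁻¹ * k ∈ R) (hss : s * s ∈ N) (hdd : d * d ∈ N)
    (hdβ : d * β * d⁻¹ * β⁻¹ ∈ N) (hsβ : β⁻¹ * (s * β * s⁻¹) ∈ N) (hdsβ : β⁻¹ * (d * s * d⁻¹ * s⁻¹) ∈ N)
    (hθd : θ * d = β * θ) (hθβ : θ * β = d * θ) : Nonempty (K ⧸ N.subgroupOf K ≃* Equiv.Perm (Fin 4)) := by
  have hgen : ∀ C : Subgroup G, R ≤ C → θ ∈ C → K ≤ C := fun C hC hθ k hk => by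
    rcases hcases k hk with h | h | h
    · exact hC h
    · simpa only [mul_inv_cancel_left] using mul_mem hθ (hC h)
    · simpa only [mul_inv_cancel_left] using mul_mem (mul_mem (hC hsR) hθ) (hC h)
  let π := QuotientGroup.mk' (N.subgroupOf K)
  have hone : ∀ {x} (hx : x ∈ K), π ⟨x, hx⟩ = 1 ↔ x ∈ N := fun hx => quot_mk_eq_one (N := N) hx
  have i6 : M.relIndex K = 6 := by rw [← Subgroup.relIndex_mul_relIndex M R K hMR hRK, iMR, iRK]
  have hcard : Nat.card (K ⧸ N.subgroupOf K) = 24 := by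
    show N.relIndex K = 24
    rw [← Subgroup.relIndex_mul_relIndex N M K (hNP.trans hPM) (hMR.trans hRK), i6,
      ← Subgroup.relIndex_mul_relIndex N P M hNP hPM, iNP, iPM]
  let V : Subgroup (K ⧸ N.subgroupOf K) := (M.subgroupOf K).map π
  have hV4 : Nat.card V = 4 := by
    have hk : π.ker ≤ M.subgroupOf K := by
      rw [QuotientGroup.ker_mk']
      exact fun x hx => hPM (hNP hx)
    have h1 := V.index_mul_card
    rw [hcard, show V.index = (M.subgroupOf K).index from
      Subgroup.index_map_eq _ (QuotientGroup.mk'_surjective _) hk, show (M.subgroupOf K).index = 6 from i6] at h1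
    omega
  obtain ⟨D, hD⟩ : ∃ x, x = π ⟨d, hRK (hMR hdM)⟩ := ⟨_, rfl⟩
  obtain ⟨B, hBd⟩ : ∃ x, x = π ⟨β, hRK (hMR (hPM hβP))⟩ := ⟨_, rfl⟩
  obtain ⟨S, hSd⟩ : ∃ x, x = π ⟨s, hRK hsR⟩ := ⟨_, rfl⟩
  obtain ⟨T, hTd⟩ : ∃ x, x = π ⟨θ, hθK⟩ := ⟨_, rfl⟩
  have hTD : T * D = B * T := by
    rw [hTd, hD, hBd, ← map_mul, ← map_mul]
    exact congrArg π (Subtype.ext hθd)
  have hTB : T * B = D * T := by
    rw [hTd, hD, hBd, ← map_mul, ← map_mul]
    exact congrArg π (Subtype.ext hθβ)
  have hcomm : Commute D B := by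
    rw [Commute, SemiconjBy, ← mul_inv_eq_iff_eq_mul, ← mul_inv_eq_one, hD, hBd, ← map_mul, ← map_inv, ← map_mul,
      ← map_inv, ← map_mul]
    exact (hone _).2 hdβ
  have hSB : S * B = B * S := by
    rw [← mul_inv_eq_iff_eq_mul, eq_comm, ← inv_mul_eq_one, hSd, hBd, ← map_mul, ← map_inv, ← map_inv, ← map_mul,
      ← map_mul]
    exact (hone _).2 hsβ
  have hSD : S * D = D * B * S := by
    have h' : B = D * S * D⁻¹ * S⁻¹ := by
      rw [← inv_mul_eq_one, hSd, hBd, hD, ← map_mul, ← map_inv, ← map_inv, ← map_inv, ← map_mul, ← map_mul, ← map_mul]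
      exact (hone _).2 hdsβ
    have hd2 : D⁻¹ = D := inv_eq_of_mul_eq_one_right (by
      rw [hD, ← map_mul]
      exact (hone _).2 hdd)
    have hs2 : S⁻¹ = S := inv_eq_of_mul_eq_one_right (by
      rw [hSd, ← map_mul]
      exact (hone _).2 hss)
    rw [h', hd2, hs2]
    have hDD : ∀ z, D * (D * z) = z := fun z => by rw [← mul_assoc]; nth_rewrite 1 [← hd2]; rw [inv_mul_cancel, one_mul]
    have hSS : S * S = 1 := by nth_rewrite 1 [← hs2]; exact inv_mul_cancel _
    simp only [mul_assoc, hDD, hSS, mul_one]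
  have hD1 : D ≠ 1 := fun h => hdP (hNP ((hone _).1 (hD.symm.trans h)))
  have hB1 : B ≠ 1 := fun h => hβN ((hone _).1 (hBd.symm.trans h))
  have hDB : D ≠ B := fun h => hdP <| by
    rw [eq_comm, ← inv_mul_eq_one, hD, hBd, ← map_inv, ← map_mul] at h
    have h' : β⁻¹ * d ∈ N := (hone _).1 h
    simpa using mul_mem hβP (hNP h')
  obtain ⟨nS, nT, nTS, nST, nSTS⟩ := four_action hD1 hB1 hDB hSB hSD hTD hTB hcomm
  have hDV : D ∈ V := ⟨_, hdM, hD.symm⟩
  have hBV : B ∈ V := ⟨_, hPM hβP, hBd.symm⟩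
  have hVset : ∀ x ∈ V, x = 1 ∨ x = D ∨ x = B ∨ x = D * B := by
    rintro _ ⟨⟨x, hxK⟩, hx : x ∈ M, rfl⟩
    rcases two_cases iPM hdM hdP hx with h | h <;>
      rcases two_cases iNP hβP hβN h with h' | h'
    · exact Or.inl ((hone _).2 h')
    · refine Or.inr (Or.inr (Or.inl ?_))
      rw [eq_comm, ← inv_mul_eq_one, hBd, ← map_inv, ← map_mul]
      exact (hone _).2 h'
    · refine Or.inr (Or.inl ?_)
      rw [eq_comm, ← inv_mul_eq_one, hD, ← map_inv, ← map_mul]
      exact (hone _).2 h'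
    · refine Or.inr (Or.inr (Or.inr ?_))
      rw [eq_comm, ← inv_mul_eq_one, hD, hBd, ← map_mul, ← map_inv, ← map_mul]
      exact (hone _).2 (by show (d * β)⁻¹ * x ∈ N; rw [_root_.mul_inv_rev, mul_assoc]; exact h')
  have hconjS : ∀ x ∈ V, S * x * S⁻¹ ∈ V := fun x hx => by
    rcases hVset x hx with rfl | rfl | rfl | rfl
    · simp
    · rw [hSD, mul_inv_cancel_right]; exact mul_mem hDV hBV
    · rw [hSB, mul_inv_cancel_right]; exact hBV
    · rw [← mul_assoc, hSD, mul_assoc (D * B) S B, hSB, ← mul_assoc, mul_inv_cancel_right]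
      exact mul_mem (mul_mem hDV hBV) hBV
  have hconjT : ∀ x ∈ V, T * x * T⁻¹ ∈ V := fun x hx => by
    rcases hVset x hx with rfl | rfl | rfl | rfl
    · simp
    · rw [hTD, mul_inv_cancel_right]; exact hBV
    · rw [hTB, mul_inv_cancel_right]; exact hDV
    · rw [← mul_assoc, hTD, mul_assoc B T B, hTB, ← mul_assoc, mul_inv_cancel_right]
      exact mul_mem hBV hDV
  have htop : ∀ C : Subgroup (K ⧸ N.subgroupOf K), V ≤ C → S ∈ C → T ∈ C → ∀ x, x ∈ C := fun C hC hS hT x => by
    obtain ⟨⟨k, hk⟩, rfl⟩ := QuotientGroup.mk'_surjective _ x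
    have h1 : K ≤ (C.comap π).map K.subtype := hgen _ (fun z hz => ?_) ⟨⟨θ, hθK⟩, (show π ⟨θ, hθK⟩ ∈ C from hTd ▸ hT), rfl⟩
    · obtain ⟨⟨k', hk'⟩, hkC, rfl⟩ := h1 hk
      exact hkC
    · refine ⟨⟨z, hRK hz⟩, ?_, rfl⟩
      show π ⟨z, hRK hz⟩ ∈ C
      rcases two_cases iMR hsR hsM hz with h | h
      · exact hC ⟨_, h, rfl⟩
      · have : π (⟨s, hRK hsR⟩⁻¹ * ⟨z, hRK hz⟩) ∈ C := hC ⟨_, h, rfl⟩
        rw [map_mul, map_inv] at this
        simpa only [hSd, mul_inv_cancel_left] using mul_mem hS this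
  haveI : Finite (K ⧸ N.subgroupOf K) := Nat.finite_of_card_ne_zero (by rw [hcard]; norm_num)
  haveI hVn : V.Normal := ⟨fun v hv g => by
    have h := htop (Subgroup.normalizer (V : Set (K ⧸ N.subgroupOf K))) V.le_normalizer
      (Subgroup.mem_normalizer_fintype hconjS) (Subgroup.mem_normalizer_fintype hconjT) g
    exact (Subgroup.mem_set_normalizer_iff.1 h v).1 hv⟩
  let six : Set (K ⧸ N.subgroupOf K) := {1, S, T, T * S, S * T, S * T * S}
  have hsix : ∀ x, ∃ w ∈ six, w⁻¹ * x ∈ V := fun x => by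
    obtain ⟨⟨k, hk⟩, rfl⟩ := QuotientGroup.mk'_surjective _ x
    have hR : ∀ z (hz : z ∈ R), π ⟨z, hRK hz⟩ ∈ V ∨ S⁻¹ * π ⟨z, hRK hz⟩ ∈ V := fun z hz => by
      rcases two_cases iMR hsR hsM hz with h | h
      · exact Or.inl ⟨_, h, rfl⟩
      · exact Or.inr ⟨⟨s, hRK hsR⟩⁻¹ * ⟨z, hRK hz⟩, h, by rw [map_mul, map_inv, hSd]⟩
    rcases hcases k hk with h | h | h
    · rcases hR k h with h' | h'
      · exact ⟨1, by simp [six], by rw [inv_one, one_mul]; exact h'⟩
      · exact ⟨S, by simp [six], h'⟩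
    · have e : π ⟨_, hRK h⟩ = T⁻¹ * π ⟨k, hk⟩ := by rw [hTd, ← map_inv, ← map_mul]; rfl
      rcases hR _ h with h' | h' <;> rw [e] at h'
      · exact ⟨T, by simp [six], h'⟩
      · exact ⟨T * S, by simp [six], by rw [_root_.mul_inv_rev, mul_assoc]; exact h'⟩
    · have e : π ⟨_, hRK h⟩ = (S * T)⁻¹ * π ⟨k, hk⟩ := by
        rw [hSd, hTd, ← map_mul, ← map_inv, ← map_mul]; rfl
      rcases hR _ h with h' | h' <;> rw [e] at h'
      · exact ⟨S * T, by simp [six], h'⟩
      · exact ⟨S * T * S, by simp [six], by rw [_root_.mul_inv_rev, mul_assoc]; exact h'⟩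
  refine perm_four hcard V hV4 (fun x hx => ?_) fun W hW hWV => ?_
  · obtain ⟨w, hw, hwx⟩ := hsix x
    have hV' : ∀ v ∈ V, Commute (w⁻¹ * x) v := fun v hv => by
      rcases hVset _ hwx with e | e | e | e <;> rcases hVset v hv with e' | e' | e' | e' <;> rw [e, e']
      all_goals first
        | exact Commute.one_left _ | exact Commute.one_right _ | exact Commute.refl _ | exact hcomm
        | exact hcomm.symm | exact (Commute.refl D).mul_left hcomm.symm | exact hcomm.mul_left (Commute.refl B)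
        | exact (Commute.refl D).mul_right hcomm | exact hcomm.symm.mul_right (Commute.refl B)
    have hwc : ∀ v ∈ V, Commute w v := fun v hv => by
      have h1 : Commute x v := (Subgroup.mem_centralizer_iff.1 hx v hv).symm
      have h2 := h1.mul_left ((hV' v hv).inv_left)
      rwa [_root_.mul_inv_rev, inv_inv, mul_inv_cancel_left] at h2
    simp only [six, Set.mem_insert_iff, Set.mem_singleton_iff] at hw
    rcases hw with rfl | rfl | rfl | rfl | rfl | rfl
    · simpa using hwx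
    · exact absurd (hwc D hDV) nS
    · exact absurd (hwc D hDV) nT
    · exact absurd (hwc B hBV) nTS
    · exact absurd (hwc D hDV) nST
    · exact absurd (hwc B hBV) nSTS
  · by_cases hbot : W = ⊥
    · exact Or.inl hbot
    refine Or.inr (le_antisymm hWV fun v hv => ?_)
    obtain ⟨w, hwW, hw1⟩ : ∃ w ∈ W, w ≠ 1 := by
      by_contra h
      push Not at h
      exact hbot ((Subgroup.eq_bot_iff_forall _).2 h)
    have hTw := hW.conj_mem _ hwW T
    have hSw := hW.conj_mem _ hwW S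
    have key : D ∈ W ∧ B ∈ W := by
      rcases hVset w (hWV hwW) with rfl | rfl | rfl | rfl
      · exact absurd rfl hw1
      · exact ⟨hwW, by rwa [hTD, mul_inv_cancel_right] at hTw⟩
      · exact ⟨by rwa [hTB, mul_inv_cancel_right] at hTw, hwW⟩
      · rw [← mul_assoc, hSD, mul_assoc (D * B) S B, hSB, ← mul_assoc, mul_inv_cancel_right] at hSw
        have hBB := mul_mem (inv_mem hwW) hSw
        rw [inv_mul_cancel_left] at hBB
        exact ⟨by simpa using mul_mem hwW (inv_mem hBB), hBB⟩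
    rcases hVset v hv with rfl | rfl | rfl | rfl
    · exact one_mem _
    · exact key.1
    · exact key.2
    · exact mul_mem key.1 key.2


end Groups

variable {F : Type*} [Field F] [Fintype F] (hodd : Odd (Fintype.card F))

theorem theta_conjA' {a b r : G8 F} (h : (a, b, r) ∈ Rel) : theta * conjA a = conjA b * theta := by
  have h1 := theta_conjA h
  dsimp only [Prod.fst, Prod.snd] at h1
  exact h1

/-- The octonion used for the scalings. -/
def scaleO (c : Fˣ) : O8 F := mk8 (c : F) 0 0 0 1 0 0 0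

omit [Fintype F] in
theorem q_scaleO (c : Fˣ) : qPlus F 4 (scaleO c) = c := by simp [scaleO, q_eq, mk8]

omit [Fintype F] in
theorem dSim_lmul (c : Fˣ) (v : O8 F) : (dSim (m := 4) c).1.1 *ᵥ v = omul (scaleO c) v := by
  refine ext8 ?_ ?_ ?_ ?_ ?_ ?_ ?_ ?_ <;> simp [dSim_val, Matrix.mulVec_diagonal, omul, scaleO, mk8]

include hodd

/-- Triality exchanges the scaling and a special isometry which is not inner. -/
theorem exists_partner {c : Fˣ} (hc : ¬ IsSquare (c : F)) :
    ∃ β, β ∈ Cfsg.psoAut F ⇑(qPlus F 4) ∧ β ∉ Cfsg.Inn (Cfsg.POmega F ⇑(qPlus F 4)) ∧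
      theta * conjA (dSim (m := 4) c) = β * theta ∧ theta * β = conjA (dSim c) * theta := by
  have h2 := two_ne_zero_of_odd hodd
  have ha : qPlus F 4 (scaleO c) ≠ 0 := by rw [q_scaleO]; exact c.ne_zero
  have h1 : qPlus F 4 (oone : O8 F) ≠ 0 := by rw [q_one]; exact one_ne_zero
  obtain ⟨b, hb⟩ := exists_bmul ha
  obtain ⟨r, hr⟩ := exists_rmul ha
  obtain ⟨r', hr'⟩ := rel_moufang_left ha hb (dSim_lmul c)
  obtain ⟨s, hs⟩ : ∃ s, oEquiv (qPlus F 4) s = rO ha * rO h1 := ⟨_, MulEquiv.apply_symm_apply _ _⟩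
  have e : b = scalarSim (Units.mk0 _ ha) * isoToSim s := g8_ext fun v => by
    rw [g8_mul, scalarSim_mulVec, Units.val_mk0, hb, omul_self_eq ha]
    show _ = _ • (s.1.1 *ᵥ v)
    rw [← oEquiv_apply, hs]
  have hbA : conjA b = conjA (isoToSim s) := by rw [e, map_mul, conjA_scalar_pre, one_mul]
  have hpar : parP (F := F) (by omega : 3 ≤ 4) (isoToSim s) = 1 := by
    rw [parP_iso, hs, map_mul, dickson_rO, dickson_rO]
    decide
  refine ⟨conjA b, ?_, ?_, theta_conjA' hr', theta_conjA' (rel_moufang hb (dSim_lmul c) hr)⟩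
  · rw [hbA, pso_plus_eq (by omega : 3 ≤ 4) hodd]
    exact ⟨s, hpar, rfl⟩
  · rw [hbA]
    intro hmem
    have hB : Fintype.card F ^ 4 % 4 = 1 := by
      rw [Nat.pow_mod]
      rcases (show Fintype.card F % 4 = 1 ∨ Fintype.card F % 4 = 3 by have := Nat.odd_iff.1 hodd; omega) with h | h <;>
        rw [h] <;> norm_num
    have h := iso_inn_chars (by omega : 3 ≤ 4) hodd hB hmem
    rw [hs, map_mul, spin_rO_qs h2, spin_rO_qs h2, q_scaleO, q_one] at h
    rw [show qs (c : F) = -1 from (Int.units_eq_one_or _).resolve_left fun e => hc (qs_eq_one.1 e),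
      qs_eq_one.2 IsSquare.one] at h
    simp at h

theorem out_odd_four : Nonempty (Cfsg.Out (Cfsg.POmega F ⇑(qPlus F 4)) ≃* Equiv.Perm (Fin 4) × (F ≃+* F)) := by
  classical
  have hm : 3 ≤ 4 := by omega
  have hB : Fintype.card F ^ 4 % 4 = 1 := by
    rw [Nat.pow_mod]
    rcases (show Fintype.card F % 4 = 1 ∨ Fintype.card F % 4 = 3 by have := Nat.odd_iff.1 hodd; omega) with h | h <;>
      rw [h] <;> norm_num
  obtain ⟨c, -, hc, -, -, -, -⟩ := exists_outer (F := F) hm hodd
  obtain ⟨β, hβP, hβN, hθd, hθβ⟩ := exists_partner hodd hc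
  set N := Cfsg.Inn (Cfsg.POmega F ⇑(qPlus F 4))
  set M := inndiagQ (F := F) hm
  set R := (conjA (Q := qPlus F 4)).range
  set K := (gal8 (F := F)).ker
  set d := conjA (dSim (m := 4) c)
  set s := sigP (F := F) hm
  have hRK : R ≤ K := by rintro _ ⟨g, rfl⟩; exact gal8_conjA g
  have hN : N ≤ K := inn_le_pgo.trans hRK
  have hdM : d ∈ M := dSim_mem hm hodd c
  have hdP : d ∉ Cfsg.psoAut F ⇑(qPlus F 4) := dSim_not_pso hm hodd hc
  have hMR : M ≤ R := inndiagQ_le hm
  have hPM : Cfsg.psoAut F ⇑(qPlus F 4) ≤ M := pso_le_inndiagQ hm hodd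
  have hss : s * s = 1 := sigP_sq hm hodd
  have hSB' : s * β * s⁻¹ ∈ Cfsg.psoAut F ⇑(qPlus F 4) := pso_conj hm hodd hβP ⟨_, rfl⟩
  have hSBn : s * β * s⁻¹ ∉ N := fun h => hβN <| by
    have := (inferInstance : N.Normal).conj_mem _ h s⁻¹
    rwa [inv_inv, ← mul_assoc, ← mul_assoc, inv_mul_cancel, one_mul, inv_mul_cancel_right] at this
  have hmemK : ∀ k ∈ K, ∀ r, r ∈ K → r⁻¹ * k ∈ gam F → r⁻¹ * k ∈ R := fun k hk r hr hg => by
    rw [show R = gam F ⊓ K from gam_inf_ker.symm]
    exact ⟨hg, mul_mem (inv_mem hr : r⁻¹ ∈ K) hk⟩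
  have hsig : s = sig := rfl
  have hcases : ∀ k ∈ K, k ∈ R ∨ theta⁻¹ * k ∈ R ∨ (s * theta)⁻¹ * k ∈ R := fun k hk => by
    rcases decomp k with h | h | h
    · exact Or.inl (by rw [show R = gam F ⊓ K from gam_inf_ker.symm]; exact ⟨h, hk⟩)
    · exact Or.inr (Or.inl (hmemK k hk _ gal8_theta h))
    · exact Or.inr (Or.inr (by rw [hsig]; exact hmemK k hk _ (mul_mem (hRK ⟨_, rfl⟩) gal8_theta) h))
  have hgen : ∀ C : Subgroup (MulAut (Cfsg.POmega F ⇑(qPlus F 4))), R ≤ C → theta ∈ C → K ≤ C := fun C hC hθ k hk => by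
    rcases hcases k hk with h | h | h
    · exact hC h
    · simpa only [mul_inv_cancel_left] using mul_mem hθ (hC h)
    · simpa only [mul_inv_cancel_left] using mul_mem (mul_mem (hC (show s ∈ R from ⟨_, rfl⟩)) hθ) (hC h)
  haveI : Finite (F ≃+* F) := Finite.of_injective (fun σ : F ≃+* F => (σ : F → F)) DFunLike.coe_injective
  obtain ⟨p, hp⟩ := CharP.exists F
  haveI := Fact.mk (CharP.char_is_prime F p)
  obtain ⟨f, hf, hF⟩ := FiniteField.card F p
  obtain ⟨t, ht⟩ := (AutPSL.card_gal (F := F) f.2 hF).1.exists_generator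
  obtain ⟨e⟩ := split_lift N gal8 hN ht (fieldAut F 4 t) (gal8_aut _)
    (by rw [← map_pow, pow_orderOf_eq_one, map_one]; exact one_mem _)
    (hgen _ (range_le_cmod hm hodd (fun h => absurd h.1 (by decide)) t)
      (mem_cmod.2 ((show Commute theta (fieldAut F 4 t) from theta_gal t).map (QuotientGroup.mk' N))))
  suffices h : Nonempty (K ⧸ N.subgroupOf K ≃* Equiv.Perm (Fin 4)) by
    obtain ⟨e4⟩ := h
    exact ⟨e.trans (MulEquiv.prodCongr e4 (MulEquiv.refl _))⟩
  have hNP : N ≤ Cfsg.psoAut F ⇑(qPlus F 4) := inn_le_pso_plus hm hodd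
  exact triality_quot N (Cfsg.psoAut F ⇑(qPlus F 4)) M R K hNP hPM hMR hRK (relIndex_inn_pso hm hodd hB)
    (relIndex_pso_inndiag hm hodd) (relIndex_inndiagQ hm hodd) relIndex_ker_gal8 hdM hdP hβP hβN ⟨_, rfl⟩
    (sigP_not_inndiag hm hodd) gal8_theta hcases (by rw [hss]; exact one_mem _)
    (sq_mem_of_klein ((inndiag_inn_plus hm hodd).2.2 hB (by decide)) hdM)
    (inndiagQ_abelian hm hodd d hdM β (hPM hβP))
    ((two_cases (relIndex_inn_pso hm hodd hB) hβP hβN hSB').resolve_left hSBn)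
    ((two_cases (relIndex_inn_pso hm hodd hB) hβP hβN (comm_mem_pso hm hodd (g := d) (x := s) ⟨_, rfl⟩
      ⟨_, rfl⟩)).resolve_left (commutator_dSim hm hodd hB hc)) hθd hθβ

end Cfsg.Agent.AutPOmega.Triality
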