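import Cfsg.Agent.AutPOmega.Triality.OutStruct

/-!
Generators of the similarities modulo the inner group, and the field automorphisms on them, in odd characteristic.
-/

set_option autoImplicit false

namespace Cfsg.Agent.AutPOmega.Triality

open Module QuadraticMap Matrix Classical.Quad

section Groups

variable {G H : Type*} [Group G] [Group H]

theorem two_cases {M R : Subgroup G} (h : M.relIndex R = 2) {a x : G} (ha : a ∈ R) (ha' : a ∉ M) (hx : x ∈ R) :
    x ∈ M ∨ a⁻¹ * x ∈ M := by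
  by_contra hne
  push Not at hne
  exact hne.2 ((Subgroup.mul_mem_iff_of_index_two (H := M.subgroupOf R) h (a := ⟨a, ha⟩⁻¹) (b := ⟨x, hx⟩)).2
    (iff_of_false (fun h' => ha' (inv_mem_iff.1 (show a⁻¹ ∈ M from h'))) hne.1))

/-- The elements commuting with `y` modulo a normal subgroup. -/
def cmod (N : Subgroup G) [N.Normal] (y : G) : Subgroup G :=
  (Subgroup.centralizer {(y : G ⧸ N)}).comap (QuotientGroup.mk' N)

theorem mem_cmod {N : Subgroup G} [N.Normal] {y x : G} :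
    x ∈ cmod N y ↔ Commute (x : G ⧸ N) (y : G ⧸ N) := by
  rw [cmod, Subgroup.mem_comap, Subgroup.mem_centralizer_singleton_iff]
  rfl

theorem le_cmod (N : Subgroup G) [N.Normal] (y : G) : N ≤ cmod N y := fun x hx => by
  rw [mem_cmod, (QuotientGroup.eq_one_iff x).2 hx]
  exact Commute.one_left _

theorem split_lift (N : Subgroup G) [N.Normal] (π : G →* H) (hN : N ≤ π.ker) {t : H}
    (ht : ∀ x, x ∈ Subgroup.zpowers t) (y : G) (hy : π y = t) (hord : y ^ orderOf t ∈ N)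
    (hc : π.ker ≤ cmod N y) : Nonempty (G ⧸ N ≃* (π.ker ⧸ N.subgroupOf π.ker) × H) := by
  let L : G ⧸ N →* H := QuotientGroup.lift N π hN
  let mk := QuotientGroup.mk' N
  obtain ⟨s, hs, hsec⟩ := exists_section_of_lift L ht (y := mk y) hy
    (by rw [← map_pow]; exact (QuotientGroup.eq_one_iff _).2 hord)
  obtain ⟨e⟩ := nonempty_prod_of_central_section L s hsec fun h n hn => by
    obtain ⟨g, rfl⟩ := QuotientGroup.mk'_surjective N n
    obtain ⟨k, rfl⟩ := ht h
    rw [map_zpow, hs]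
    exact (mem_cmod.1 (hc hn)).zpow_right k
  let r : π.ker →* L.ker := (mk.comp π.ker.subtype).codRestrict L.ker fun k => k.2
  have hr : Function.Surjective r := fun ⟨n, hn⟩ => by
    obtain ⟨g, rfl⟩ := QuotientGroup.mk'_surjective N n
    exact ⟨⟨g, hn⟩, rfl⟩
  have hk : r.ker = N.subgroupOf π.ker := Subgroup.ext fun k => by
    rw [MonoidHom.mem_ker, Subgroup.mem_subgroupOf, ← QuotientGroup.eq_one_iff, Subtype.ext_iff]
    rfl
  exact ⟨e.trans (MulEquiv.prodCongr ((QuotientGroup.quotientMulEquivOfEq hk.symm).trans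
    (QuotientGroup.quotientKerEquivOfSurjective r hr)).symm (MulEquiv.refl H))⟩

/-- Among the elements of order four of a cyclic group of order four there are two, inverse to each other. -/
theorem cyclic_four_pair {M N : Subgroup G} [N.Normal]
    (e : Nonempty (M ⧸ N.subgroupOf M ≃* Multiplicative (ZMod 4))) {d d' : G} (hd : d ∈ M) (hd' : d' ∈ M)
    (h : d * d ∉ N) (h' : d' * d' ∉ N) :
    (d : G ⧸ N) = d' ∨ (d : G ⧸ N) * d' = 1 := by
  obtain ⟨e⟩ := e
  let π := QuotientGroup.mk' (N.subgroupOf M)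
  have k : ∀ {z : G} (hz : z ∈ M), z * z ∉ N → e (π ⟨z, hz⟩) * e (π ⟨z, hz⟩) ≠ 1 := fun hz hzz h => hzz <| by
    rw [← map_mul, ← map_mul, MulEquiv.map_eq_one_iff] at h
    exact (quot_mk_eq_one (N := N) _).1 h
  by_cases heq : e (π ⟨d, hd⟩) = e (π ⟨d', hd'⟩)
  · left
    have := (QuotientGroup.eq).1 (e.injective heq)
    exact QuotientGroup.eq.2 this
  · right
    have h4 : e (π ⟨d, hd⟩) * e (π ⟨d', hd'⟩) = 1 := zmod4_inv_aux _ _ (k hd h) (k hd' h') heq
    rw [← map_mul, ← map_mul, MulEquiv.map_eq_one_iff] at h4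
    exact (QuotientGroup.eq_one_iff _).2 ((quot_mk_eq_one (N := N) _).1 h4)

end Groups

variable {F : Type*} [Field F] {m : ℕ}

theorem dSim_mul (a b : Fˣ) : dSim (m := m) (a * b) = dSim a * dSim b := by
  refine Subtype.ext (Units.ext ?_)
  show (dSim (m := m) (a * b)).1.1 = (dSim (m := m) a).1.1 * (dSim (m := m) b).1.1
  rw [dSim_val, dSim_val, dSim_val, Matrix.diagonal_mul_diagonal]
  congr 1
  funext l
  rcases l with l | l <;> simp

theorem fieldAut_dSim (σ : F ≃+* F) (c : Fˣ) :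
    fieldAut F m σ * conjA (dSim c) = conjA (dSim (Units.map (σ : F →* F) c)) * fieldAut F m σ := by
  show (Semi.ofGal σ _).aut * conjA _ = conjA _ * (Semi.ofGal σ _).aut
  rw [conjA_apply, conjA_apply, ← Semi.aut_comp, ← Semi.aut_comp]
  refine Semi.aut_congr _ _ one_ne_zero fun v => ?_
  rw [one_smul, Semi.app_comp, Semi.app_comp, Semi.ofGal_app, Semi.ofGal_app, Semi.ofSim_app, Semi.ofSim_app,
    dSim_val, dSim_val]
  funext l
  rw [Matrix.mulVec_diagonal, Matrix.mulVec_diagonal, map_mul]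
  rcases l with l | l <;> simp

theorem fieldAut_not_square (σ : F ≃+* F) {c : Fˣ} (hc : ¬ IsSquare (c : F)) :
    ¬ IsSquare ((Units.map (σ : F →* F) c : Fˣ) : F) := fun h => hc <| by
  obtain ⟨r, hr⟩ := h
  exact ⟨σ.symm r, σ.injective (by rw [map_mul, σ.apply_symm_apply]; exact hr)⟩

variable [Fintype F] (hm : 3 ≤ m) (hodd : Odd (Fintype.card F))

/-- The reflection swapping one pair. -/
noncomputable abbrev sigP : MulAut (Cfsg.POmega F ⇑(qPlus F m)) :=
  conjA (isoToSim (swapIso (⟨0, by omega⟩ : Fin m)))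

include hm hodd

theorem dSim_not_pso {c : Fˣ} (hc : ¬ IsSquare (c : F)) :
    conjA (dSim (m := m) c) ∉ Cfsg.psoAut F ⇑(qPlus F m) := fun hmem => by
  rw [pso_plus_eq hm hodd] at hmem
  obtain ⟨s, -, hs⟩ := hmem
  have h1 : (isoToSim s)⁻¹ * dSim c ∈ (conjA (Q := qPlus F m)).ker := by
    rw [MonoidHom.mem_ker, map_mul, map_inv, ← hs]
    exact inv_mul_cancel _
  have h3 := (ker_conjA_plus hm hodd).2 _ h1
  rw [map_mul, map_inv, mult0_isoToSim, inv_one, one_mul, multP_dSim hm] at h3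
  exact hc h3

theorem dSim_mem (c : Fˣ) : conjA (dSim (m := m) c) ∈ inndiagQ hm := ⟨_, parP_dSim hm c, rfl⟩

theorem sigP_not_inndiag : sigP hm ∉ inndiagQ (F := F) hm := by
  obtain ⟨-, s, -, hs, -, -, hsM⟩ := exists_outer hm hodd
  rwa [hs] at hsM

theorem pso_conj {x : MulAut (Cfsg.POmega F ⇑(qPlus F m))} (hx : x ∈ Cfsg.psoAut F ⇑(qPlus F m))
    {g : MulAut (Cfsg.POmega F ⇑(qPlus F m))} (hg : g ∈ (conjA (Q := qPlus F m)).range) :
    g * x * g⁻¹ ∈ Cfsg.psoAut F ⇑(qPlus F m) := by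
  obtain ⟨φ, -, hk⟩ := pgo_pso_plus hm hodd
  rw [← pgoAut_eq] at hg
  have hx' : x ∈ Cfsg.pgoAut F ⇑(qPlus F m) := by
    rw [pgoAut_eq]
    exact inndiagQ_le hm (pso_le_inndiagQ hm hodd hx)
  have h : (⟨g, hg⟩ * ⟨x, hx'⟩ * ⟨g, hg⟩⁻¹ : ↥(Cfsg.pgoAut F ⇑(qPlus F m))) ∈ φ.ker := by
    have hx1 : (⟨x, hx'⟩ : ↥(Cfsg.pgoAut F ⇑(qPlus F m))) ∈ φ.ker := by rw [hk]; exact hx
    rw [MonoidHom.mem_ker, map_mul, map_mul, MonoidHom.mem_ker.1 hx1, mul_one, map_inv, mul_inv_cancel]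
  rw [hk] at h
  exact h

theorem comm_mem_pso {g x : MulAut (Cfsg.POmega F ⇑(qPlus F m))} (hg : g ∈ (conjA (Q := qPlus F m)).range)
    (hx : x ∈ (conjA (Q := qPlus F m)).range) : g * x * g⁻¹ * x⁻¹ ∈ Cfsg.psoAut F ⇑(qPlus F m) := by
  obtain ⟨φ, -, hk⟩ := pgo_pso_plus hm hodd
  rw [← pgoAut_eq] at hg hx
  have h : (⟨g, hg⟩ * ⟨x, hx⟩ * ⟨g, hg⟩⁻¹ * ⟨x, hx⟩⁻¹ : ↥(Cfsg.pgoAut F ⇑(qPlus F m))) ∈ φ.ker := by
    rw [MonoidHom.mem_ker, map_mul, map_mul, map_mul, map_inv, map_inv, mul_comm (φ _) (φ _), mul_inv_cancel_right,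
      mul_inv_cancel]
  rw [hk] at h
  exact h

theorem relIndex_pso_inndiag : (Cfsg.psoAut F ⇑(qPlus F m)).relIndex (inndiagQ hm) = 2 := by
  have h := Subgroup.relIndex_mul_relIndex _ _ _ (pso_le_inndiagQ hm hodd) (inndiagQ_le (F := F) hm)
  rw [relIndex_inndiagQ hm hodd, relIndex_pso_pgo hm hodd] at h
  omega

/-- The similarities are generated by the inner group, one scaling and one reflection. -/
theorem range_le {c : Fˣ} (hc : ¬ IsSquare (c : F)) (C : Subgroup (MulAut (Cfsg.POmega F ⇑(qPlus F m))))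
    (hN : Cfsg.Inn (Cfsg.POmega F ⇑(qPlus F m)) ≤ C) (hd : conjA (dSim (m := m) c) ∈ C) (hs : sigP hm ∈ C) :
    (conjA (Q := qPlus F m)).range ≤ C := by
  have hpso : Cfsg.psoAut F ⇑(qPlus F m) ≤ C := by
    by_cases hB : Fintype.card F ^ m % 4 = 1
    · intro z hz
      have hb := comm_mem_pso hm hodd (g := conjA (dSim (m := m) c)) (x := sigP hm) ⟨_, rfl⟩ ⟨_, rfl⟩
      have hbC : conjA (dSim (m := m) c) * sigP hm * (conjA (dSim (m := m) c))⁻¹ * (sigP hm)⁻¹ ∈ C :=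
        mul_mem (mul_mem (mul_mem hd hs) (inv_mem hd)) (inv_mem hs)
      rcases two_cases (relIndex_inn_pso hm hodd hB) hb (commutator_dSim hm hodd hB hc) hz with h | h
      · exact hN h
      · simpa only [mul_inv_cancel_left] using mul_mem hbC (hN h)
    · rw [pso_eq_inn hm hodd hB]; exact hN
  have hM : inndiagQ hm ≤ C := fun z hz => by
    rcases two_cases (relIndex_pso_inndiag hm hodd) (dSim_mem hm hodd c) (dSim_not_pso hm hodd hc) hz with h | h
    · exact hpso h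
    · simpa only [mul_inv_cancel_left] using mul_mem hd (hpso h)
  intro z hz
  rcases two_cases (relIndex_inndiagQ hm hodd) ⟨_, rfl⟩ (sigP_not_inndiag hm hodd) hz with h | h
  · exact hM h
  · simpa only [mul_inv_cancel_left] using mul_mem hs (hM h)

/-- All scalings by non-squares agree modulo the inner group, except when their class has order four. -/
theorem dSim_class (h : ¬ (Odd m ∧ Fintype.card F ^ m % 4 = 1)) {c c' : Fˣ} (hc : ¬ IsSquare (c : F))
    (hc' : ¬ IsSquare (c' : F)) :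
    (conjA (dSim (m := m) c') : MulAut (Cfsg.POmega F ⇑(qPlus F m)) ⧸ Cfsg.Inn (Cfsg.POmega F ⇑(qPlus F m))) =
      (conjA (dSim (m := m) c) : MulAut (Cfsg.POmega F ⇑(qPlus F m)) ⧸ Cfsg.Inn (Cfsg.POmega F ⇑(qPlus F m))) := by
  have hsq : ∀ r : Fˣ, conjA (dSim (m := m) r) * conjA (dSim r) ∈ Cfsg.Inn (Cfsg.POmega F ⇑(qPlus F m)) := fun r => by
    obtain ⟨h1, -, h3⟩ := inndiag_inn_plus hm hodd
    by_cases hB : Fintype.card F ^ m % 4 = 1
    · exact sq_mem_of_klein (h3 hB (Nat.not_odd_iff_even.1 fun ho => h ⟨ho, hB⟩)) (dSim_mem hm hodd r)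
    · obtain ⟨e⟩ := h1 hB
      refine (quot_mk_eq_one (N := Cfsg.Inn (Cfsg.POmega F ⇑(qPlus F m)))
        (mul_mem (dSim_mem hm hodd r) (dSim_mem hm hodd r))).1 (e.injective ?_)
      rw [map_one, show (⟨_, mul_mem (dSim_mem hm hodd r) (dSim_mem hm hodd r)⟩ : inndiagQ hm) =
        ⟨_, dSim_mem hm hodd r⟩ * ⟨_, dSim_mem hm hodd r⟩ from rfl, map_mul, map_mul]
      generalize e _ = z
      revert z
      decide
  have h2 := two_ne_zero_of_odd hodd
  obtain ⟨r, hr⟩ : IsSquare (((c⁻¹ * c' : Fˣ) : Fˣ) : F) := qs_eq_one.1 (by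
    rw [Units.val_mul, qs_mul (c⁻¹).ne_zero c'.ne_zero,
      show qs ((c⁻¹ : Fˣ) : F) = -1 from (Int.units_eq_one_or _).resolve_left fun e => hc <| by
        obtain ⟨w, hw⟩ := qs_eq_one.1 e
        exact ⟨w⁻¹, by rw [← mul_inv, ← hw, Units.val_inv_eq_inv_val, inv_inv]⟩,
      show qs (c' : F) = -1 from (Int.units_eq_one_or _).resolve_left fun e => hc' (qs_eq_one.1 e)]
    decide)
  have hr0 : r ≠ 0 := fun h0 => (c⁻¹ * c').ne_zero (by rw [hr, h0, mul_zero])
  have e : c' = c * (Units.mk0 r hr0 * Units.mk0 r hr0) := by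
    rw [show Units.mk0 r hr0 * Units.mk0 r hr0 = c⁻¹ * c' from Units.ext hr.symm, mul_inv_cancel_left]
  rw [e, dSim_mul, dSim_mul, map_mul, map_mul, QuotientGroup.mk_mul, (QuotientGroup.eq_one_iff _).2 (hsq _), mul_one]

end Cfsg.Agent.AutPOmega.Triality
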