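import Cfsg.Agent.AutPOmega.Triality.OddGen

/-!
The outer automorphism group of a plus group of dimension at least ten in odd characteristic.
-/

set_option autoImplicit false

namespace Cfsg.Agent.AutPOmega.Triality

open Module QuadraticMap Matrix Classical.Quad

variable {F : Type*} [Field F] [Fintype F] {m : ℕ} (hm : 3 ≤ m) (hodd : Odd (Fintype.card F))

theorem fieldAut_sigP (σ : F ≃+* F) : Commute (sigP (F := F) hm) (fieldAut F m σ) := fieldAut_swap σ _

include hm hodd

theorem sigP_sq : sigP (F := F) hm * sigP hm = 1 := by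
  obtain ⟨-, s, -, hs, hss, -, -⟩ := exists_outer hm hodd
  rwa [hs] at hss

/-- A field automorphism commutes with the similarities modulo the inner group outside the cyclic case. -/
theorem range_le_cmod (h : ¬ (Odd m ∧ Fintype.card F ^ m % 4 = 1)) (σ : F ≃+* F) :
    (conjA (Q := qPlus F m)).range ≤ cmod (Cfsg.Inn (Cfsg.POmega F ⇑(qPlus F m))) (fieldAut F m σ) := by
  obtain ⟨c, -, hc, -, -, -, -⟩ := exists_outer (F := F) hm hodd
  refine range_le hm hodd hc _ (le_cmod _ _) ?_ ?_
  · rw [mem_cmod, Commute, SemiconjBy, ← QuotientGroup.mk_mul _ (fieldAut F m σ), fieldAut_dSim,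
      QuotientGroup.mk_mul, dSim_class hm hodd h hc (fieldAut_not_square σ hc)]
  · exact mem_cmod.2 ((fieldAut_sigP hm σ).map (QuotientGroup.mk' _))

/-- A lift of a field automorphism that is central on the similarities modulo the inner group. -/
theorem exists_lift (t : F ≃+* F) :
    ∃ y : MulAut (Cfsg.POmega F ⇑(qPlus F m)), (y = fieldAut F m t ∨ y = fieldAut F m t * sigP hm) ∧
      y ^ orderOf t ∈ Cfsg.Inn (Cfsg.POmega F ⇑(qPlus F m)) ∧
      (conjA (Q := qPlus F m)).range ≤ cmod (Cfsg.Inn (Cfsg.POmega F ⇑(qPlus F m))) y := by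
  have hord : fieldAut F m t ^ orderOf t = 1 := by rw [← map_pow, pow_orderOf_eq_one, map_one]
  by_cases hcase : Odd m ∧ Fintype.card F ^ m % 4 = 1
  swap
  · exact ⟨_, Or.inl rfl, by rw [hord]; exact one_mem _, range_le_cmod hm hodd hcase t⟩
  obtain ⟨hmo, hB⟩ := hcase
  obtain ⟨c, -, hc, -, -, -, -⟩ := exists_outer (F := F) hm hodd
  set N := Cfsg.Inn (Cfsg.POmega F ⇑(qPlus F m))
  let mk := QuotientGroup.mk' N
  have hZ := (inndiag_inn_plus hm hodd).2.1 hB hmo
  have hdd := dSim_sq_not_inn hm hodd hB hmo hc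
  have hY : mk (fieldAut F m t) * mk (conjA (dSim c)) =
      mk (conjA (dSim (Units.map (t : F →* F) c))) * mk (fieldAut F m t) := by
    rw [← map_mul, fieldAut_dSim, map_mul]
  have hS := (fieldAut_sigP hm t).map mk
  rcases cyclic_four_pair hZ (dSim_mem hm hodd c) (dSim_mem hm hodd (Units.map (t : F →* F) c)) hdd
    (dSim_sq_not_inn hm hodd hB hmo (fieldAut_not_square t hc)) with he | he
  · refine ⟨_, Or.inl rfl, by rw [hord]; exact one_mem _, range_le hm hodd hc _ (le_cmod _ _) ?_ (mem_cmod.2 hS)⟩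
    rw [mem_cmod]
    change Commute (mk _) (mk _)
    rw [show mk (conjA (dSim (Units.map (t : F →* F) c))) = mk (conjA (dSim c)) from he.symm] at hY
    exact hY.symm
  · have hinv : mk (sigP hm) * mk (conjA (dSim c)) * mk (sigP hm) * mk (conjA (dSim c)) = 1 := by
      rw [← map_mul, ← map_mul, ← map_mul]
      refine (QuotientGroup.eq_one_iff _).2 (invert_of_cyclic_four hZ (dSim_mem hm hodd c) ?_ hdd
        (sigP_sq hm hodd) (commutator_dSim hm hodd hB hc))
      refine ⟨isoToSim (swapIso ⟨0, by omega⟩) * dSim c * isoToSim (swapIso ⟨0, by omega⟩), ?_, ?_⟩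
      · rw [SetLike.mem_coe, MonoidHom.mem_ker, map_mul, map_mul, parP_dSim hm, parP, parG_swap hm]
        decide
      · rw [map_mul, map_mul]
    have hSS : mk (sigP (F := F) hm) * mk (sigP hm) = 1 := by rw [← map_mul, sigP_sq hm hodd, map_one]
    have hD : mk (conjA (dSim (Units.map (t : F →* F) c))) = (mk (conjA (dSim c)))⁻¹ :=
      eq_inv_of_mul_eq_one_right he
    rw [hD] at hY
    have hne : (mk (conjA (dSim (m := m) c)))⁻¹ ≠ mk (conjA (dSim c)) := fun h => hdd <| by
      rw [inv_eq_iff_mul_eq_one, ← map_mul] at h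
      exact (QuotientGroup.eq_one_iff _).1 h
    have hSD : mk (sigP hm) * mk (conjA (dSim c)) = (mk (conjA (dSim c)))⁻¹ * mk (sigP hm) := by
      rw [eq_inv_mul_iff_mul_eq]
      have hSi : (mk (sigP (F := F) hm))⁻¹ = mk (sigP hm) := inv_eq_of_mul_eq_one_right hSS
      generalize mk (sigP (F := F) hm) = S at hinv hSS hSi ⊢
      generalize mk (conjA (dSim (m := m) c)) = D at hinv ⊢
      have h2 : D * S * D = S := by
        have := congrArg (fun z => S * z) hinv
        simp only [← mul_assoc, hSS, one_mul, mul_one] at this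
        exact this
      calc D * (S * D) = D * S * D := (mul_assoc _ _ _).symm
        _ = S := h2
    have heven : Even (orderOf t) := by
      by_contra ho
      obtain ⟨j, hj⟩ := Nat.not_even_iff_odd.1 ho
      have h1 : mk (fieldAut F m t) ^ orderOf t = 1 := by rw [← map_pow, hord, map_one]
      generalize mk (fieldAut F m t) = Y at hY h1
      generalize mk (conjA (dSim (m := m) c)) = D at hY hne
      have h2 : Commute (Y ^ 2) D := by
        show Y ^ 2 * D = D * Y ^ 2
        have h3 : Y * D⁻¹ = D * Y := by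
          rw [mul_inv_eq_iff_eq_mul, mul_assoc, hY, mul_inv_cancel_left]
        rw [pow_two, mul_assoc, hY, ← mul_assoc, h3, mul_assoc]
      rw [hj, pow_succ', pow_mul] at h1
      have h4 : Commute Y D := by
        rw [eq_inv_of_mul_eq_one_left h1]
        exact (h2.pow_left j).inv_left
      exact hne (mul_right_cancel (hY.symm.trans h4.eq))
    refine ⟨_, Or.inr rfl, ?_, range_le hm hodd hc _ (le_cmod _ _) ?_ ?_⟩
    · rw [(fieldAut_sigP hm t).symm.mul_pow, hord, one_mul]
      obtain ⟨j, hj⟩ := heven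
      rw [hj, ← two_mul, pow_mul, pow_two, sigP_sq hm hodd, one_pow]
      exact one_mem _
    · rw [mem_cmod]
      change Commute (mk _) (mk _)
      rw [map_mul]
      refine Eq.symm ?_
      show mk (fieldAut F m t) * mk (sigP hm) * mk (conjA (dSim c)) = _
      rw [mul_assoc, hSD, ← mul_assoc, ← mul_assoc]
      congr 1
      generalize mk (fieldAut F m t) = Y at hY
      generalize mk (conjA (dSim (m := m) c)) = D at hY
      rw [mul_inv_eq_iff_eq_mul, mul_assoc, hY, mul_inv_cancel_left]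
    · exact mem_cmod.2 (((fieldAut_sigP hm t).mul_right (Commute.refl _)).map mk)

theorem range_quot_klein (hA : ¬ Fintype.card F ^ m % 4 = 1) :
    Nonempty (↥(conjA (Q := qPlus F m)).range ⧸
      (Cfsg.Inn (Cfsg.POmega F ⇑(qPlus F m))).subgroupOf (conjA (Q := qPlus F m)).range ≃*
      Multiplicative (ZMod 2 × ZMod 2)) := by
  obtain ⟨φ, hs, hk⟩ := pgo_pso_plus hm hodd
  let φ' := φ.comp (MulEquiv.subgroupCongr (pgoAut_eq (Q := qPlus F m)).symm).toMonoidHom
  have hs' : Function.Surjective φ' :=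
    hs.comp (MulEquiv.subgroupCongr (pgoAut_eq (Q := qPlus F m)).symm).surjective
  have hk' : φ'.ker = (Cfsg.Inn (Cfsg.POmega F ⇑(qPlus F m))).subgroupOf (conjA (Q := qPlus F m)).range := by
    refine Subgroup.ext fun x => ?_
    rw [MonoidHom.mem_ker, MonoidHom.comp_apply, ← MonoidHom.mem_ker, hk, Subgroup.mem_subgroupOf,
      Subgroup.mem_subgroupOf, pso_eq_inn hm hodd hA]
    rfl
  exact ⟨(QuotientGroup.quotientMulEquivOfEq hk'.symm).trans (QuotientGroup.quotientKerEquivOfSurjective φ' hs')⟩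

omit hm in
theorem out_odd_five (hm5 : 5 ≤ m) :
    Nonempty (Cfsg.Out (Cfsg.POmega F ⇑(qPlus F m)) ≃*
      (↥(conjA (Q := qPlus F m)).range ⧸
        (Cfsg.Inn (Cfsg.POmega F ⇑(qPlus F m))).subgroupOf (conjA (Q := qPlus F m)).range) × (F ≃+* F)) := by
  haveI : Finite (F ≃+* F) := Finite.of_injective (fun σ : F ≃+* F => (σ : F → F)) DFunLike.coe_injective
  obtain ⟨p, hp⟩ := CharP.exists F
  haveI := Fact.mk (CharP.char_is_prime F p)
  obtain ⟨f, hf, hF⟩ := FiniteField.card F p
  obtain ⟨t, ht⟩ := (AutPSL.card_gal (F := F) f.2 hF).1.exists_generator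
  obtain ⟨y, hy, hord, hc⟩ := exists_lift (by omega : 3 ≤ m) hodd t
  set hcx := ctx_plus (F := F) hm5
  have hgy : galOf hcx y = t := by
    rcases hy with rfl | rfl
    · exact galOf_aut _ _
    · rw [map_mul, galOf_conjA, mul_one]; exact galOf_aut _ _
  obtain ⟨e⟩ := split_lift (Cfsg.Inn (Cfsg.POmega F ⇑(qPlus F m))) (galOf hcx)
    (by rw [ker_galOf]; exact inn_le_pgo) ht y hgy hord (by rw [ker_galOf]; exact hc)
  have hK := ker_galOf hcx
  exact ⟨e.trans (MulEquiv.prodCongr (QuotientGroup.congr _ _ (MulEquiv.subgroupCongr hK) (by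
    ext x
    simp only [Subgroup.mem_map, Subgroup.mem_subgroupOf]
    exact ⟨fun ⟨z, hz, he⟩ => he ▸ hz, fun hx => ⟨(MulEquiv.subgroupCongr hK).symm x, hx,
      (MulEquiv.subgroupCongr hK).apply_symm_apply x⟩⟩)) (MulEquiv.refl _))⟩

end Cfsg.Agent.AutPOmega.Triality
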