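import Cfsg.Agent.AutPOmega.Triality.PlusCard

/-!
The outer automorphism group of a plus group as the linear outer automorphisms times the field automorphisms.
-/

set_option autoImplicit false

namespace Cfsg.Agent.AutPOmega.Triality

open Module QuadraticMap Matrix Classical.Quad

section Groups

variable {G H : Type*} [Group G] [Group H]

theorem split_mod (N : Subgroup G) [N.Normal] (π : G →* H) (φ : H →* G) (hφ : ∀ h, π (φ h) = h) (hN : N ≤ π.ker)
    (hc : ∀ h, ∀ k ∈ π.ker, k * φ h * k⁻¹ * (φ h)⁻¹ ∈ N) :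
    Nonempty (G ⧸ N ≃* (π.ker ⧸ N.subgroupOf π.ker) × H) := by
  let L : G ⧸ N →* H := QuotientGroup.lift N π hN
  let mk := QuotientGroup.mk' N
  obtain ⟨e⟩ := nonempty_prod_of_central_section L (mk.comp φ) hφ fun h n hn => by
    obtain ⟨g, rfl⟩ := QuotientGroup.mk'_surjective N n
    have h1 : mk (g * φ h * g⁻¹ * (φ h)⁻¹) = 1 := (QuotientGroup.eq_one_iff _).2 (hc h g hn)
    rw [map_mul, map_mul, map_mul, map_inv, map_inv, mul_inv_eq_one, mul_inv_eq_iff_eq_mul] at h1
    exact h1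
  let r : π.ker →* L.ker := (mk.comp π.ker.subtype).codRestrict L.ker fun k => k.2
  have hr : Function.Surjective r := fun ⟨n, hn⟩ => by
    obtain ⟨g, rfl⟩ := QuotientGroup.mk'_surjective N n
    exact ⟨⟨g, hn⟩, rfl⟩
  have hk : r.ker = N.subgroupOf π.ker := Subgroup.ext fun k => by
    rw [MonoidHom.mem_ker, Subgroup.mem_subgroupOf, ← QuotientGroup.eq_one_iff, Subtype.ext_iff]
    rfl
  exact ⟨e.trans (MulEquiv.prodCongr ((QuotientGroup.quotientMulEquivOfEq hk.symm).trans
    (QuotientGroup.quotientKerEquivOfSurjective r hr)).symm (MulEquiv.refl H))⟩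

theorem perm_three [Finite G] (K : Subgroup G) (h2 : Nat.card K = 2) (h3 : K.index = 3) (hn : ¬ K.Normal) :
    Nonempty (G ≃* Equiv.Perm (Fin 3)) := by
  classical
  haveI : Fact (Nat.Prime 2) := ⟨Nat.prime_two⟩
  let f := MulAction.toPermHom G (G ⧸ K)
  have hinj : Function.Injective f := by
    rw [← MonoidHom.ker_eq_bot_iff, ← Subgroup.normalCore_eq_ker]
    haveI : Fact (Nat.card K).Prime := ⟨h2 ▸ Nat.prime_two⟩
    rcases Subgroup.eq_bot_or_eq_top_of_prime_card (K.normalCore.subgroupOf K) with h | h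
    · rwa [Subgroup.subgroupOf_eq_bot, disjoint_iff, inf_of_le_left K.normalCore_le] at h
    · rw [Subgroup.subgroupOf_eq_top] at h
      exact absurd (le_antisymm h K.normalCore_le ▸ K.normalCore_normal) hn
  haveI : Finite (G ⧸ K) := inferInstance
  have e3 : Nat.card (G ⧸ K) = 3 := h3
  let e : G ⧸ K ≃ Fin 3 := (Finite.equivFinOfCardEq e3)
  let f' := (e.permCongrHom : Equiv.Perm (G ⧸ K) ≃* _).toMonoidHom.comp f
  have hinj' : Function.Injective f' := e.permCongrHom.injective.comp hinj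
  refine ⟨MulEquiv.ofBijective f' ((Nat.bijective_iff_injective_and_card f').2 ⟨hinj', ?_⟩)⟩
  rw [← K.index_mul_card, h2, h3, Nat.card_eq_fintype_card, Fintype.card_perm, Fintype.card_fin]
  rfl

theorem cyclic_two' [Finite G] (h : Nat.card G = 2) : Nonempty (G ≃* Multiplicative (ZMod 2)) := by
  haveI : Fact (Nat.Prime 2) := ⟨Nat.prime_two⟩
  have e := zmodCyclicMulEquiv (isCyclic_of_prime_card h)
  rw [h] at e
  exact ⟨e.symm⟩

end Groups

variable {F : Type*} [Field F] {m : ℕ}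

/-- The field automorphisms acting on the coordinates. -/
noncomputable def fieldAut (F : Type*) [Field F] (m : ℕ) : (F ≃+* F) →* MulAut (Cfsg.POmega F ⇑(qPlus F m)) :=
  MonoidHom.mk' (fun σ => (Semi.ofGal σ (qPlus_gal (m := m) σ)).aut) fun σ τ => by
    rw [← Semi.aut_comp]
    refine Semi.aut_congr _ _ one_ne_zero fun v => ?_
    rw [one_smul, Semi.app_comp, Semi.ofGal_app, Semi.ofGal_app, Semi.ofGal_app]
    rfl

theorem fieldAut_swap (σ : F ≃+* F) (j : Fin m) :
    Commute (conjA (isoToSim (swapIso (F := F) j))) (fieldAut F m σ) := by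
  show conjA _ * (Semi.ofGal σ _).aut = (Semi.ofGal σ _).aut * conjA _
  rw [conjA_apply, ← Semi.aut_comp, ← Semi.aut_comp]
  refine Semi.aut_congr _ _ one_ne_zero fun v => ?_
  rw [one_smul, Semi.app_comp, Semi.app_comp, Semi.ofGal_app, Semi.ofGal_app, Semi.ofSim_app, Semi.ofSim_app]
  funext l
  show ((swapIso j).1.1 *ᵥ _) l = σ (((swapIso j).1.1 *ᵥ v) l)
  rw [swapIso_mulVec, swapIso_mulVec]

section Two

variable [Fintype F] [CharP F 2]

theorem swap_not_inn (hm : 4 ≤ m) (j : Fin m) :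
    conjA (isoToSim (swapIso (F := F) j)) ∉ Cfsg.Inn (Cfsg.POmega F ⇑(qPlus F m)) := fun h => by
  rw [inn_eq] at h
  obtain ⟨_, ⟨s, rfl⟩, hs⟩ := h
  have h1 : conjA (isoToSim (s.1⁻¹ * swapIso j)) = 1 := by
    rw [map_mul, map_inv, map_mul, map_inv, ← hs]
    exact inv_mul_cancel _
  obtain ⟨a, -, ha⟩ := scalar_of_conjA_pre (pre_plus hm) h1
  obtain ⟨v, hv⟩ := value_one_plus (F := F) (show 3 ≤ m by omega)
  have h2 : (2 : F) = 0 := CharTwo.two_eq_zero
  have h3 : qPlus F m ((s.1⁻¹ * swapIso j).1.1 *ᵥ v) = qPlus F m v :=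
    mem_isometryGroup_iff.1 (s.1⁻¹ * swapIso j).2 v
  have h3' : qPlus F m (a • v) = qPlus F m v := by
    rw [← ha v]
    exact h3
  rw [Classical.Quad.map_smul', hv, mul_one] at h3'
  have ha1 : a = 1 := by
    have h0 : (a - 1) * (a - 1) = 0 := by linear_combination h3' + (1 - a) * h2
    exact sub_eq_zero.1 (mul_self_eq_zero.1 h0)
  have he : swapIso j = s.1 := by
    refine (inv_mul_eq_one.1 ?_).symm
    refine Subtype.ext (Units.ext (Matrix.ext_of_mulVec_single fun i => ?_))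
    refine (ha _).trans ?_
    rw [ha1, one_smul]
    exact (Matrix.one_mulVec _).symm
  have hH := hyp_plus (F := F) (show 3 ≤ m by omega)
  have h4 := ((mem_commutator_chars hH.nondeg hH.hex _).1 ((mem_omega_iff s.1).1 s.2)).1
  rw [← he, oEquiv_swapIso, dickson_rO] at h4
  exact absurd h4 (by decide)

/-- In characteristic two a similarity is inner or the reflection times an inner one. -/
theorem range_two_cases (hm : 4 ≤ m) (j : Fin m) {x : MulAut (Cfsg.POmega F ⇑(qPlus F m))}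
    (hx : x ∈ (conjA (Q := qPlus F m)).range) :
    x ∈ Cfsg.Inn (Cfsg.POmega F ⇑(qPlus F m)) ∨
      (conjA (isoToSim (swapIso (F := F) j)))⁻¹ * x ∈ Cfsg.Inn (Cfsg.POmega F ⇑(qPlus F m)) := by
  have hi : (Cfsg.Inn (Cfsg.POmega F ⇑(qPlus F m))).relIndex (conjA (Q := qPlus F m)).range = 2 := by
    have h := ((Cfsg.Inn (Cfsg.POmega F ⇑(qPlus F m))).subgroupOf (conjA (Q := qPlus F m)).range).index_mul_card
    rw [Nat.card_congr (Subgroup.subgroupOfEquivOfLe inn_le_pgo).toEquiv, card_inn_pre (pre_plus hm),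
      card_range_two (pre_plus hm) (value_one_plus (by omega)) (hn_plus (by omega))] at h
    exact Nat.eq_of_mul_eq_mul_right Nat.card_pos h
  by_contra hne
  push Not at hne
  obtain ⟨h1, h2⟩ := hne
  let σ0 : (conjA (Q := qPlus F m)).range := ⟨conjA (isoToSim (swapIso (F := F) j)), ⟨_, rfl⟩⟩
  have := (Subgroup.mul_mem_iff_of_index_two (H := (Cfsg.Inn (Cfsg.POmega F ⇑(qPlus F m))).subgroupOf
    (conjA (Q := qPlus F m)).range) hi (a := σ0⁻¹) (b := ⟨x, hx⟩)).2
    (iff_of_false (fun h => swap_not_inn hm j (inv_mem_iff.1 (show σ0.1⁻¹ ∈ _ from h))) h1)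
  exact h2 this

theorem out_two_five (hm : 5 ≤ m) :
    Nonempty (Cfsg.Out (Cfsg.POmega F ⇑(qPlus F m)) ≃* Multiplicative (ZMod 2) × (F ≃+* F)) := by
  let j : Fin m := ⟨0, by omega⟩
  set hc := ctx_plus (F := F) hm
  set N := Cfsg.Inn (Cfsg.POmega F ⇑(qPlus F m))
  have hN : N ≤ (galOf hc).ker := by rw [ker_galOf]; exact inn_le_pgo
  obtain ⟨e⟩ := split_mod N (galOf hc) (fieldAut F m) (fun σ => galOf_aut _ _) hN fun σ k hk => by
    rw [ker_galOf] at hk
    rw [← QuotientGroup.eq_one_iff]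
    have hc' : Commute (k : MulAut _ ⧸ N) (fieldAut F m σ : MulAut _ ⧸ N) := by
      rcases range_two_cases (by omega) j hk with h | h
      · rw [(QuotientGroup.eq_one_iff k).2 h]; exact Commute.one_left _
      · rw [show (k : MulAut _ ⧸ N) = (conjA (isoToSim (swapIso (F := F) j)) : MulAut _ ⧸ N) from
          (QuotientGroup.eq.2 h).symm]
        exact (fieldAut_swap σ j).map (QuotientGroup.mk' N)
    rw [QuotientGroup.mk_mul, QuotientGroup.mk_mul, QuotientGroup.mk_mul, QuotientGroup.mk_inv,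
      QuotientGroup.mk_inv, hc'.eq, mul_inv_cancel_right, mul_inv_cancel]
  have hcard : Nat.card ((galOf hc).ker ⧸ N.subgroupOf (galOf hc).ker) = 2 := by
    have h := Subgroup.card_eq_card_quotient_mul_card_subgroup (N.subgroupOf (galOf hc).ker)
    rw [Nat.card_congr (Subgroup.subgroupOfEquivOfLe hN).toEquiv, card_inn_pre (pre_plus (by omega))] at h
    rw [show Nat.card (galOf hc).ker = 2 * Nat.card (Cfsg.POmega F ⇑(qPlus F m)) by
      rw [ker_galOf]; exact card_range_two (pre_plus (by omega)) (value_one_plus (by omega)) (hn_plus (by omega))] at h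
    exact (Nat.eq_of_mul_eq_mul_right Nat.card_pos h).symm
  obtain ⟨e2⟩ := cyclic_two' hcard
  exact ⟨e.trans (MulEquiv.prodCongr e2 (MulEquiv.refl _))⟩

theorem out_two_four :
    Nonempty (Cfsg.Out (Cfsg.POmega F ⇑(qPlus F 4)) ≃* Equiv.Perm (Fin 3) × (F ≃+* F)) := by
  set N := Cfsg.Inn (Cfsg.POmega F ⇑(qPlus F 4))
  set R := (conjA (Q := qPlus F 4)).range
  set K := (gal8 (F := F)).ker
  have hRK : R ≤ K := by rintro _ ⟨g, rfl⟩; exact gal8_conjA g
  have hN : N ≤ K := inn_le_pgo.trans hRK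
  obtain ⟨e⟩ := split_mod N gal8 (fieldAut F 4) (fun σ => gal8_aut _) hN fun σ k hk => by
    rw [← QuotientGroup.eq_one_iff]
    let φ : MulAut _ ⧸ N := (fieldAut F 4 σ : MulAut _ ⧸ N)
    have hR : ∀ x ∈ R, Commute (x : MulAut _ ⧸ N) φ := fun x hx => by
      rcases range_two_cases le_rfl (0 : Fin 4) hx with h | h
      · rw [(QuotientGroup.eq_one_iff x).2 h]; exact Commute.one_left _
      · rw [show (x : MulAut _ ⧸ N) = (conjA (isoToSim (swapIso (F := F) (0 : Fin 4))) : MulAut _ ⧸ N) from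
          (QuotientGroup.eq.2 h).symm]
        exact (fieldAut_swap σ 0).map (QuotientGroup.mk' N)
    have hθ : Commute (theta (F := F) : MulAut _ ⧸ N) φ :=
      (show Commute theta (fieldAut F 4 σ) from theta_gal σ).map (QuotientGroup.mk' N)
    have hs : Commute (sig (F := F) : MulAut _ ⧸ N) φ := hR _ ⟨_, rfl⟩
    have hmem : ∀ r, r ∈ K → r⁻¹ * k ∈ gam F → r⁻¹ * k ∈ R := fun r hr hg => by
      rw [show R = gam F ⊓ K from gam_inf_ker.symm]
      exact ⟨hg, mul_mem (inv_mem hr : r⁻¹ ∈ K) hk⟩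
    have hkc : Commute (k : MulAut _ ⧸ N) φ := by
      rcases decomp k with h | h | h
      · exact hR k (by rw [show R = gam F ⊓ K from gam_inf_ker.symm]; exact ⟨h, hk⟩)
      · rw [← mul_inv_cancel_left theta k, QuotientGroup.mk_mul]
        exact hθ.mul_left (hR _ (hmem _ gal8_theta h))
      · rw [← mul_inv_cancel_left (sig * theta) k, QuotientGroup.mk_mul, QuotientGroup.mk_mul]
        exact (hs.mul_left hθ).mul_left (hR _ (hmem _ (mul_mem (hRK ⟨_, rfl⟩) gal8_theta) h))
    rw [QuotientGroup.mk_mul, QuotientGroup.mk_mul, QuotientGroup.mk_mul, QuotientGroup.mk_inv,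
      QuotientGroup.mk_inv, hkc.eq, mul_inv_cancel_right, mul_inv_cancel]
  let π := QuotientGroup.mk' (N.subgroupOf K)
  let Rb : Subgroup (K ⧸ N.subgroupOf K) := (R.subgroupOf K).map π
  have hker : π.ker ≤ R.subgroupOf K := by
    rw [QuotientGroup.ker_mk']
    exact fun x hx => inn_le_pgo hx
  have h3 : Rb.index = 3 := by
    rw [Subgroup.index_map_eq _ (QuotientGroup.mk'_surjective _) hker]
    exact relIndex_ker_gal8
  have h2 : Nat.card Rb = 2 := by
    have h := Rb.index_mul_card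
    have h' := Subgroup.card_eq_card_quotient_mul_card_subgroup (N.subgroupOf K)
    have h'' := (R.subgroupOf K).index_mul_card
    rw [Nat.card_congr (Subgroup.subgroupOfEquivOfLe hRK).toEquiv, show (R.subgroupOf K).index = 3 from
      relIndex_ker_gal8, show Nat.card R = 2 * Nat.card (Cfsg.POmega F ⇑(qPlus F 4)) from
      card_range_two pre8 (value_one_plus (by omega)) (hn_plus (by omega)), h',
      Nat.card_congr (Subgroup.subgroupOfEquivOfLe hN).toEquiv, card_inn_pre pre8, ← mul_assoc] at h''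
    rw [h3, ← Nat.eq_of_mul_eq_mul_right Nat.card_pos h''] at h
    omega
  obtain ⟨e3⟩ := perm_three Rb h2 h3 fun hn => by
    have hs : π ⟨sig, hRK ⟨_, rfl⟩⟩ ∈ Rb := ⟨_, ⟨_, rfl⟩, rfl⟩
    have h := hn.conj_mem _ hs (π ⟨theta, gal8_theta⟩)⁻¹
    rw [inv_inv, ← map_inv, ← map_mul, ← map_mul] at h
    obtain ⟨y, hy, he⟩ := h
    obtain ⟨z, hz, hez⟩ := (QuotientGroup.mk'_eq_mk' (N := N.subgroupOf K)).1 he
    have hmem : (⟨theta, gal8_theta⟩⁻¹ * ⟨sig, hRK ⟨_, rfl⟩⟩ * ⟨theta, gal8_theta⟩ : K) ∈ R.subgroupOf K := by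
      rw [← hez]
      exact mul_mem hy (inn_le_pgo hz)
    have hmem' : theta⁻¹ * sig * theta ∈ R := hmem
    rw [show R = gam F ⊓ K from gam_inf_ker.symm] at hmem'
    exact theta_sig_theta (by rw [← mul_assoc]; exact hmem'.1)
  exact ⟨e.trans (MulEquiv.prodCongr e3 (MulEquiv.refl _))⟩

end Two

end Cfsg.Agent.AutPOmega.Triality
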